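import Cfsg.Agent.H775.EP.ModelOmega
import Cfsg.Agent.H955.QMinus
import Cfsg.Agent.UGT.U2.Rec.Congr
import Cfsg.Agent.LieClassical.OrthFinite

/-!
# S3499: the simple group with a model `omegaGL Qf` is `PΩ` of a standard form (helper621)

* `equiv_of_models` : two groups with a model `S` are isomorphic;
* `pomega_of_equiv` : `PΩ` of isometric quadratic spaces;
* `model_minus`, `model_plus` : `Q ≃* POmega F (quadFormMinus (m-1) F 1 ζ)` resp. `POmega F (quadFormPlus m F)`.
-/

set_option autoImplicit false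

namespace Cfsg.Agent.H621.EP

open Subgroup Cfsg Cfsg.Geo Cfsg.Agent.H419.EP
open QuadraticMap Cfsg.Agent.LieClassical.OrthCore Cfsg.Agent.LieClassical.OrthTrans
open scoped MatrixGroups

section models

variable {ι : Type} [Fintype ι] [DecidableEq ι] {F : Type*} [Field F]

/-- Two groups with the same model are isomorphic. -/
theorem equiv_of_models {Q Q' : Type*} [Group Q] [Group Q'] {S : Subgroup (GL ι F)} (m : Model Q S)
    (m' : Model Q' S) : Nonempty (Q ≃* Q') := by
  have h1 : m.π.ker = m'.π.ker := by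
    ext s
    rw [MonoidHom.mem_ker, MonoidHom.mem_ker, m.ker, m'.ker]
  exact ⟨((QuotientGroup.quotientKerEquivOfSurjective m.π m.surj).symm.trans
    (QuotientGroup.quotientMulEquivOfEq h1)).trans (QuotientGroup.quotientKerEquivOfSurjective m'.π m'.surj)⟩

end models

section equiv

variable {ι ι' : Type} [Fintype ι] [DecidableEq ι] [Fintype ι'] [DecidableEq ι'] {F : Type*} [Field F]

/-- conjugation with a linear equivalence -/
def cjE {V V' : Type*} [AddCommGroup V] [Module F V] [AddCommGroup V'] [Module F V'] (e : V' ≃ₗ[F] V) :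
    (V' ≃ₗ[F] V') ≃* (V ≃ₗ[F] V) where
  toFun g := (e.symm.trans g).trans e
  invFun g := (e.trans g).trans e.symm
  left_inv g := by ext v; simp
  right_inv g := by ext v; simp
  map_mul' g h := by ext v; simp

theorem cjE_apply {V V' : Type*} [AddCommGroup V] [Module F V] [AddCommGroup V'] [Module F V'] (e : V' ≃ₗ[F] V)
    (g : V' ≃ₗ[F] V') (v : V) : cjE e g v = e (g (e.symm v)) := rfl

theorem map_cjE_O {V V' : Type*} [AddCommGroup V] [Module F V] [AddCommGroup V'] [Module F V']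
    {Q : QuadraticForm F V} {Q' : QuadraticForm F V'} (e : V' ≃ₗ[F] V) (he : ∀ u, Q (e u) = Q' u) :
    (O Q').map (cjE e).toMonoidHom = O Q := by
  ext g
  constructor
  · rintro ⟨k, hk, rfl⟩
    rw [mem_O]
    intro v
    show Q (e (k (e.symm v))) = Q v
    rw [he, mem_O.1 hk, ← he, e.apply_symm_apply]
  · intro hg
    refine ⟨(cjE e).symm g, ?_, (cjE e).apply_symm_apply g⟩
    show (cjE e).symm g ∈ O Q'
    rw [mem_O]
    intro v
    show Q' (e.symm (g (e v))) = Q' v
    rw [← he, e.apply_symm_apply, mem_O.1 hg, he]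

/-- `PΩ` of isometric spaces -/
theorem pomega_of_equiv {Q : QuadraticForm F (ι → F)} {Q' : QuadraticForm F (ι' → F)}
    (e : (ι' → F) ≃ₗ[F] (ι → F)) (he : ∀ u, Q (e u) = Q' u) :
    Nonempty (POmega F ⇑Q ≃* POmega F ⇑Q') := by
  have f1 : O Q' ≃* O Q := ((cjE e).subgroupMap (O Q')).trans (MulEquiv.subgroupCongr (map_cjE_O e he))
  have f2 : isometryGroup F ⇑Q ≃* isometryGroup F ⇑Q' :=
    ((LieClassical.OrthFinite.isometryEquiv Q).trans f1.symm).trans (LieClassical.OrthFinite.isometryEquiv Q').symm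
  obtain ⟨f3⟩ := UGT.U2.Rec.Congr.commutator_equiv f2
  exact UGT.U2.Rec.Congr.quot_center f3

end equiv

section types

variable {ι : Type} [Fintype ι] [DecidableEq ι] {F : Type*} [Field F]

omit [Fintype ι] [DecidableEq ι] in
theorem plusTop_iff {Q : QuadraticForm F (ι → F)} : IsPlusTypeOn (⇑Q) ⊤ ↔ H955.IsPlus Q := by
  constructor
  · rintro ⟨U, -, hU0, hd⟩
    exact ⟨U, fun u hu => hU0 u hu, by rw [hd, finrank_top]⟩
  · rintro ⟨U, hU0, hd⟩
    exact ⟨U, le_top, fun u hu => hU0 u hu, by rw [finrank_top]; exact hd⟩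

/-- **minus type** -/
theorem model_minus [Finite F] {Q : Type*} [Group Q] {Qf : (ι → F) → F} (hQ : IsNondegenerateQuadraticForm Qf) {m : ℕ}
    (hm : 3 ≤ m) (hc : Fintype.card ι = 2 * m) (hminus : ¬ IsPlusTypeOn Qf ⊤) (M : Model Q (omegaGL Qf)) {a b : F}
    (hab : ∀ z₁ z₂ : F, z₁ ^ 2 + a * z₁ * z₂ + b * z₂ ^ 2 = 0 → z₁ = 0 ∧ z₂ = 0) :
    Nonempty (Q ≃* POmega F (quadFormMinus (m - 1) F a b)) := by
  obtain ⟨f⟩ := equiv_of_models M (H775.EP.modelOmega hQ (by omega))
  obtain ⟨Q', hQ', hnd⟩ := H883.Bridge.exists_quadraticForm hQ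
  subst hQ'
  obtain ⟨k, rfl⟩ : ∃ k, m = k + 1 := ⟨m - 1, by omega⟩
  obtain ⟨e, he⟩ := H955.exists_minus_equiv hab k Q' hnd (by rw [Module.finrank_fintype_fun_eq_card, hc])
    (fun h => hminus (plusTop_iff.2 h))
  obtain ⟨f2⟩ := pomega_of_equiv (Q := Q') (Q' := LieClassical.QuadForms.minusForm k F a b) e.symm (fun u => by
    rw [← he, e.apply_symm_apply])
  rw [LieClassical.QuadForms.coe_minusForm] at f2
  exact ⟨f.trans f2⟩

/-- **plus type** -/
theorem model_plus [Finite F] {Q : Type*} [Group Q] {Qf : (ι → F) → F} (hQ : IsNondegenerateQuadraticForm Qf) {m : ℕ}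
    (hm : 3 ≤ m) (hc : Fintype.card ι = 2 * m) (hplus : IsPlusTypeOn Qf ⊤) (M : Model Q (omegaGL Qf)) :
    Nonempty (Q ≃* POmega F (quadFormPlus m F)) := by
  obtain ⟨f⟩ := equiv_of_models M (H775.EP.modelOmega hQ (by omega))
  obtain ⟨Q', hQ', hnd⟩ := H883.Bridge.exists_quadraticForm hQ
  subst hQ'
  obtain ⟨e, he⟩ := H955.exists_plus_equiv m Q' hnd (by rw [Module.finrank_fintype_fun_eq_card, hc])
    (plusTop_iff.1 hplus)
  obtain ⟨f2⟩ := pomega_of_equiv (Q := Q') (Q' := LieClassical.QuadForms.plusForm m F) e.symm (fun u => by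
    rw [← he, e.apply_symm_apply])
  rw [LieClassical.QuadForms.coe_plusForm] at f2
  exact ⟨f.trans f2⟩

end types

end Cfsg.Agent.H621.EP
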