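import Mathlib

/-!
# S3499, `Ω₈⁻(2) < Ω₈⁺(4)`: the normaliser of a subgroup of order `17` (helper621)
-/

set_option autoImplicit false
set_option linter.unusedSectionVars false

namespace Cfsg.Agent.H621.EP.Sev

open Subgroup

/-- in a group of order `|Ω₈⁻(2)|` with `|C(y)|` dividing `255`: `C(y) = ⟨y⟩` and some `w` of order `4` with
`w y w⁻¹ = y ^ 4` -/
theorem exists_w {N : Type*} [Group N] [Finite N] (hN : Nat.card N = 197406720) {y : N} (hy : orderOf y = 17)
    (hC : Nat.card (centralizer ({y} : Set N)) ∣ 255) :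
    (∀ c : N, c * y = y * c → c ∈ zpowers y) ∧ ∃ w : N, w ^ 4 = 1 ∧ w * y * w⁻¹ = y ^ 4 := by
  classical
  have hp : Fact (Nat.Prime 17) := ⟨by norm_num⟩
  have hY : Nat.card (zpowers y) = 17 := by rw [Nat.card_zpowers, hy]
  have hy17 : y ^ 17 = 1 := by rw [← hy]; exact pow_orderOf_eq_one y
  have hfac : (Nat.card N).factorization 17 = 1 := by
    rw [hN]
    have : 197406720 = 17 ^ 1 * 11612160 := by norm_num
    rw [this, Nat.factorization_mul (by norm_num) (by norm_num), Nat.factorization_pow]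
    simp only [Finsupp.coe_add, Pi.add_apply, Finsupp.coe_smul, Pi.smul_apply, Nat.Prime.factorization_self hp.out,
      smul_eq_mul, mul_one]
    rw [Nat.factorization_eq_zero_of_not_dvd (by norm_num)]
  let P : Sylow 17 N := Sylow.ofCard (zpowers y) (by rw [hY, hfac, pow_one])
  have hP : (P : Subgroup N) = zpowers y := rfl
  have h1 := card_sylow_modEq_one 17 N
  rw [P.card_eq_index_normalizer] at h1
  have h2 := Subgroup.card_mul_index (Subgroup.normalizer ((zpowers y : Subgroup N) : Set N))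
  change (Subgroup.normalizer ((zpowers y : Subgroup N) : Set N)).index ≡ 1 [MOD 17] at h1
  set NY := Subgroup.normalizer ((zpowers y : Subgroup N) : Set N) with hNY
  let φ : NY →* MulAut (zpowers y) := (zpowers y).normalizerMonoidHom
  have hker : Nat.card φ.ker = Nat.card (centralizer ({y} : Set N)) := by
    have h3 : φ.ker = (centralizer ((zpowers y : Subgroup N) : Set N)).subgroupOf NY := by
      ext n
      rw [MonoidHom.mem_ker, Subgroup.mem_subgroupOf, Subgroup.mem_centralizer_iff]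
      constructor
      · intro h g hg
        have h4 := congrArg Subtype.val (DFunLike.congr_fun h ⟨g, hg⟩)
        have h5 : (n : N) * g * (n : N)⁻¹ = g := h4
        exact (mul_inv_eq_iff_eq_mul.1 h5).symm
      · intro h
        apply MulEquiv.ext
        intro g
        apply Subtype.ext
        show (n : N) * g * (n : N)⁻¹ = g
        rw [mul_inv_eq_iff_eq_mul]
        exact (h g g.2).symm
    have h4 : centralizer ((zpowers y : Subgroup N) : Set N) = centralizer ({y} : Set N) := by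
      rw [zpowers_eq_closure, Subgroup.centralizer_closure]
    have h5 : centralizer ({y} : Set N) ≤ NY := by
      rw [← h4]
      exact Subgroup.centralizer_le_normalizer _
    rw [h3, h4, Nat.card_congr (Subgroup.subgroupOfEquivOfLe h5).toEquiv]
  have hrange := Subgroup.card_mul_index φ.ker
  rw [Subgroup.index_ker] at hrange
  have hcard16 : Nat.card (MulAut (zpowers y)) = 16 := by
    have : IsCyclic (zpowers y) := inferInstance
    rw [Nat.card_congr (IsCyclic.mulAutMulEquiv (zpowers y)).toEquiv, hY, Nat.card_eq_fintype_card,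
      ZMod.card_units_eq_totient]
    decide
  have hI : Nat.card φ.range ∣ 16 := by
    rw [← hcard16]
    exact Subgroup.card_subgroup_dvd_card _
  have h17 : 17 ∣ Nat.card (centralizer ({y} : Set N)) := by
    rw [← hY]
    apply Subgroup.card_dvd_of_le
    rw [zpowers_le, mem_centralizer_iff]
    intro g hg
    rw [Set.mem_singleton_iff.1 hg]
  rw [hN, ← hrange, hker] at h2
  obtain ⟨hc, he⟩ : Nat.card (centralizer ({y} : Set N)) = 17 ∧ Nat.card φ.range = 4 := by
    generalize Nat.card (centralizer ({y} : Set N)) = C at *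
    generalize Nat.card φ.range = I at *
    generalize NY.index = n at *
    obtain ⟨c, rfl⟩ := h17
    have hc15 : c ∣ 15 := by
      obtain ⟨k, hk⟩ := hC
      refine ⟨k, ?_⟩
      rw [mul_assoc] at hk
      omega
    have hc' : c ∈ Nat.divisors 15 := Nat.mem_divisors.2 ⟨hc15, by norm_num⟩
    have hI' : I ∈ Nat.divisors 16 := Nat.mem_divisors.2 ⟨hI, by norm_num⟩
    rw [show Nat.divisors 15 = {1, 3, 5, 15} by decide] at hc'
    rw [show Nat.divisors 16 = {1, 2, 4, 8, 16} by decide] at hI'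
    simp only [Finset.mem_insert, Finset.mem_singleton] at hc' hI'
    unfold Nat.ModEq at h1
    rcases hc' with rfl | rfl | rfl | rfl <;> rcases hI' with rfl | rfl | rfl | rfl | rfl <;> omega
  have hYC : zpowers y ≤ centralizer ({y} : Set N) := by
    rw [zpowers_le, mem_centralizer_iff]
    intro g hg
    rw [Set.mem_singleton_iff.1 hg]
  refine ⟨?_, ?_⟩
  · have hCY : zpowers y = centralizer ({y} : Set N) := by
      apply SetLike.coe_injective
      refine Set.eq_of_subset_of_ncard_le hYC ?_ (Set.toFinite _)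
      rw [← Nat.card_coe_set_eq, ← Nat.card_coe_set_eq]
      exact (hc.trans hY.symm).le
    intro c hcy
    rw [hCY, mem_centralizer_iff]
    intro g hg
    rw [Set.mem_singleton_iff.1 hg]
    exact hcy.symm
  · -- the image of the normaliser
    let yy : zpowers y := ⟨y, mem_zpowers y⟩
    let ψ : φ.range → zpowers y := fun β => (β : MulAut (zpowers y)) yy
    have hgen : ∀ β γ : MulAut (zpowers y), β yy = γ yy → β = γ := by
      intro β γ h
      apply MulEquiv.ext
      rintro ⟨g, hg⟩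
      obtain ⟨k, rfl⟩ := mem_zpowers_iff.1 hg
      have e : (⟨y ^ k, hg⟩ : zpowers y) = yy ^ k := Subtype.ext rfl
      rw [e, map_zpow, map_zpow, h]
    have hinj : Function.Injective ψ := by
      intro β γ h
      exact Subtype.ext (hgen _ _ h)
    let T : Set (zpowers y) := {yy ^ 1, yy ^ 4, yy ^ 13, yy ^ 16}
    have hT : T.ncard ≤ 4 := by
      refine (Set.ncard_insert_le _ _).trans ?_
      have h3 := Set.ncard_insert_le (yy ^ 4) ({yy ^ 13, yy ^ 16} : Set (zpowers y))
      have h4 := Set.ncard_insert_le (yy ^ 13) ({yy ^ 16} : Set (zpowers y))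
      rw [Set.ncard_singleton] at h4
      omega
    have hyo : orderOf yy = 17 := by rw [← hy]; exact Subgroup.orderOf_mk y _
    have hsub : Set.range ψ ⊆ T := by
      rintro _ ⟨β, rfl⟩
      obtain ⟨⟨g, hg⟩, hgb⟩ : ∃ g, (β : MulAut (zpowers y)) yy = g := ⟨_, rfl⟩
      have hfo : IsOfFinOrder y := orderOf_pos_iff.1 (by rw [hy]; norm_num)
      obtain ⟨k, hk⟩ := hfo.mem_powers_iff_mem_zpowers.2 hg
      have hk' : (β : MulAut (zpowers y)) yy = yy ^ k := by
        rw [hgb]
        exact Subtype.ext hk.symm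
      have hb : ∀ j : ℕ, (((β : MulAut (zpowers y)) ^ j : MulAut (zpowers y))) yy = yy ^ (k ^ j) := by
        intro j
        induction j with
        | zero => rw [pow_zero, pow_zero, pow_one]; rfl
        | succ j ih => rw [pow_succ, MulAut.mul_apply, hk', map_pow, ih, ← pow_mul, pow_succ]
      have h5 : (β : MulAut (zpowers y)) ^ 4 = 1 := by
        have h6 : β ^ 4 = 1 := by rw [← he]; exact pow_card_eq_one'
        exact congrArg Subtype.val h6
      have h6 := hb 4
      rw [h5] at h6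
      have h7 : yy ^ (k ^ 4) = yy ^ 1 := by rw [pow_one]; exact h6.symm
      have h8 : k ^ 4 ≡ 1 [MOD 17] := by
        rw [← hyo]
        exact pow_eq_pow_iff_modEq.1 h7
      have h9 : ∀ r < 17, r ^ 4 % 17 = 1 → r = 1 ∨ r = 4 ∨ r = 13 ∨ r = 16 := by decide
      have h10 : (k % 17) ^ 4 % 17 = 1 := by
        rw [← Nat.pow_mod]
        exact h8
      have h11 := h9 (k % 17) (Nat.mod_lt _ (by norm_num)) h10
      have h12 : yy ^ k = yy ^ (k % 17) := by rw [← hyo, pow_mod_orderOf]
      show (β : MulAut (zpowers y)) yy ∈ T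
      rw [hk', h12]
      rcases h11 with h | h | h | h <;> rw [h]
      · exact Or.inl rfl
      · exact Or.inr (Or.inl rfl)
      · exact Or.inr (Or.inr (Or.inl rfl))
      · exact Or.inr (Or.inr (Or.inr rfl))
    have hfull : Set.range ψ = T := by
      refine Set.eq_of_subset_of_ncard_le hsub ?_ (Set.toFinite _)
      have h3 : (Set.range ψ).ncard = 4 := by
        rw [← Set.image_univ, Set.ncard_image_of_injective _ hinj, Set.ncard_univ, he]
      omega
    have h4 : yy ^ 4 ∈ Set.range ψ := by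
      rw [hfull]
      exact Or.inr (Or.inl rfl)
    obtain ⟨⟨_, ⟨n, hn⟩, rfl⟩, hβ⟩ := h4
    have hconj : (n : N) * y * (n : N)⁻¹ = y ^ 4 := congrArg Subtype.val hβ
    refine ⟨n ^ 17, ?_, ?_⟩
    · have h68 : Nat.card NY = 68 := by rw [← hrange, hker, hc, he]
      have h3 : (⟨n, hn⟩ : NY) ^ 68 = 1 := by rw [← h68]; exact pow_card_eq_one'
      have h4 : n ^ 68 = 1 := congrArg Subtype.val h3
      rw [← pow_mul]
      exact h4
    · have h3 : ∀ j : ℕ, (n : N) ^ j * y * ((n : N) ^ j)⁻¹ = y ^ (4 ^ j) := by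
        intro j
        induction j with
        | zero => rw [pow_zero, pow_zero, one_mul, inv_one, mul_one, pow_one]
        | succ j ih =>
          have e : (n : N) ^ (j + 1) * y * ((n : N) ^ (j + 1))⁻¹ =
              (n : N) ^ j * ((n : N) * y * (n : N)⁻¹) * ((n : N) ^ j)⁻¹ := by
            rw [pow_succ]
            group
          rw [e, hconj, ← conj_pow, ih, ← pow_mul, pow_succ]
      rw [h3 17, show 4 ^ 17 = 17 * 1010580540 + 4 by norm_num, pow_add, pow_mul, hy17, one_pow, one_mul]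

/-- **the element `z`**: `y, z` generate a Sylow `17`-subgroup of order `17 ^ 2`, `z` commutes with `w` -/
theorem exists_z {Q : Type*} [Group Q] [Finite Q] (h17 : (Nat.card Q).factorization 17 = 2) {y w : Q}
    (hy : orderOf y = 17) (hw : w * y * w⁻¹ = y ^ 4) {D : Subgroup Q} (hyD : y ∈ D) (hD : Nat.card D ∣ 34)
    (hK : ∀ t : Q, t * y = y * t → t * w * t⁻¹ * w⁻¹ ∈ D) :
    ∃ z : Q, orderOf z = 17 ∧ z * y = y * z ∧ w * z = z * w := by
  classical
  have hp : Fact (Nat.Prime 17) := ⟨by norm_num⟩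
  have hy17 : y ^ 17 = 1 := by rw [← hy]; exact pow_orderOf_eq_one y
  have hY : Nat.card (zpowers y) = 17 := by rw [Nat.card_zpowers, hy]
  -- `R`
  obtain ⟨R, hR⟩ := (IsPGroup.of_card (p := 17) (n := 1) (G := zpowers y) (by rw [hY, pow_one])).exists_le_sylow
  have hR289 : Nat.card R = 289 := by
    rw [R.card_eq_multiplicity, h17]
    norm_num
  have hRc : ∀ a ∈ R, ∀ b ∈ R, a * b = b * a := by
    have h1 : Nat.card R = 17 ^ 2 := by rw [hR289]; norm_num
    have h2 := IsPGroup.isMulCommutative_of_card_eq_prime_sq h1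
    intro a ha b hb
    exact congrArg Subtype.val (mul_comm' (⟨a, ha⟩ : R) ⟨b, hb⟩)
  have hyR : y ∈ R := hR (mem_zpowers y)
  have hYc : ∀ t, t * y = y * t → ∀ g ∈ zpowers y, t * g * t⁻¹ = g := by
    intro t ht g hg
    obtain ⟨k, rfl⟩ := mem_zpowers_iff.1 hg
    rw [mul_inv_eq_iff_eq_mul]
    exact (show Commute t y from ht).zpow_right k
  -- squares of elements of `C(y)`
  have hYD : zpowers y ≤ D := (zpowers_le).2 hyD
  have hidx : ∀ a ∈ D, ∀ b ∈ D, a ∉ zpowers y → b ∉ zpowers y → a * b⁻¹ ∈ zpowers y := by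
    intro a ha b hb ha' hb'
    have h1 := Subgroup.card_mul_index ((zpowers y).subgroupOf D)
    rw [Nat.card_congr (Subgroup.subgroupOfEquivOfLe hYD).toEquiv, hY] at h1
    have h2 : ((zpowers y).subgroupOf D).index ∣ 2 := by
      obtain ⟨k, hk⟩ := hD
      rw [← h1, mul_assoc] at hk
      exact ⟨k, by omega⟩
    have h3 : ((zpowers y).subgroupOf D).index = 2 := by
      rcases (Nat.dvd_prime Nat.prime_two).1 h2 with h | h
      · exfalso
        rw [Subgroup.index_eq_one] at h
        apply ha'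
        have : (⟨a, ha⟩ : D) ∈ (zpowers y).subgroupOf D := by rw [h]; exact mem_top _
        exact this
      · exact h
    have h4 := Subgroup.mul_mem_iff_of_index_two h3 (a := (⟨a, ha⟩ : D)) (b := (⟨b, hb⟩ : D)⁻¹)
    have h5 : (⟨a, ha⟩ : D) * (⟨b, hb⟩ : D)⁻¹ ∈ (zpowers y).subgroupOf D := by
      rw [h4]
      constructor
      · intro h
        exact absurd h ha'
      · intro h
        exact absurd ((zpowers y).inv_mem_iff.1 h) hb'
    exact h5
  -- the subgroup `T0`
  have hmul : ∀ t s, t * y = y * t → s * y = y * s → s * w * s⁻¹ * w⁻¹ ∈ zpowers y → t * w * t⁻¹ * w⁻¹ ∈ zpowers y →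
      (t * s) * w * (t * s)⁻¹ * w⁻¹ ∈ zpowers y := by
    intro t s ht hs h1 h2
    have e : (t * s) * w * (t * s)⁻¹ * w⁻¹ = t * (s * w * s⁻¹ * w⁻¹) * t⁻¹ * (t * w * t⁻¹ * w⁻¹) := by group
    rw [e, hYc t ht _ h1]
    exact (zpowers y).mul_mem h1 h2
  have hsq : ∀ t, t * y = y * t → (t * t) * w * (t * t)⁻¹ * w⁻¹ ∈ zpowers y := by
    intro t ht
    by_cases h1 : t * w * t⁻¹ * w⁻¹ ∈ zpowers y
    · exact hmul t t ht ht h1 h1
    · by_contra h2
      have ht2 : (t * t) * y = y * (t * t) := by rw [mul_assoc, ht, ← mul_assoc, ht, mul_assoc]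
      have h3 := hidx _ (hK _ ht2) _ (hK _ ht) h2 h1
      have e : (t * t) * w * (t * t)⁻¹ * w⁻¹ * (t * w * t⁻¹ * w⁻¹)⁻¹ = t * (t * w * t⁻¹ * w⁻¹) * t⁻¹ := by group
      rw [e] at h3
      apply h1
      have hti : t⁻¹ * y = y * t⁻¹ := by
        rw [inv_mul_eq_iff_eq_mul, ← mul_assoc, ht, mul_inv_cancel_right]
      have h4 := hYc t⁻¹ hti _ h3
      have e2 : t⁻¹ * (t * (t * w * t⁻¹ * w⁻¹) * t⁻¹) * t⁻¹⁻¹ = t * w * t⁻¹ * w⁻¹ := by group
      rw [e2] at h4
      rw [h4]
      exact h3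
  have hpow : ∀ t, t * y = y * t → t * w * t⁻¹ * w⁻¹ ∈ zpowers y → ∀ k : ℕ, (t ^ k) * w * (t ^ k)⁻¹ * w⁻¹ ∈ zpowers y := by
    intro t ht h1 k
    induction k with
    | zero =>
      rw [pow_zero, one_mul, inv_one, mul_one, mul_inv_cancel]
      exact one_mem _
    | succ k ih =>
      rw [pow_succ]
      exact hmul _ _ ((show Commute t y from ht).pow_left k) ht h1 ih
  have hR1 : ∀ t ∈ R, t * w * t⁻¹ * w⁻¹ ∈ zpowers y := by
    intro t htR
    have ht := hRc t htR y hyR
    have h1 : (⟨t, htR⟩ : R) ^ 289 = 1 := by rw [← hR289]; exact pow_card_eq_one'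
    have h2 : t ^ 289 = 1 := congrArg Subtype.val h1
    have ht2 : (t * t) * y = y * (t * t) := by rw [mul_assoc, ht, ← mul_assoc, ht, mul_assoc]
    have h3 := hpow _ ht2 (hsq t ht) 145
    have h4 : (t * t) ^ 145 = t := by
      rw [← pow_two, ← pow_mul, show 2 * 145 = 289 + 1 by norm_num, pow_add, h2, one_mul, pow_one]
    rwa [h4] at h3
  -- `t ∈ R` outside `⟨y⟩`
  obtain ⟨t, htR, htY⟩ : ∃ t ∈ R, t ∉ zpowers y := by
    by_contra hcon
    push Not at hcon
    have h1 : Nat.card R ≤ Nat.card (zpowers y) := Nat.card_le_card_of_injective _ (Subgroup.inclusion_injective hcon)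
    rw [hR289, hY] at h1
    omega
  have ht := hRc t htR y hyR
  have hfo : IsOfFinOrder y := orderOf_pos_iff.1 (by rw [hy]; norm_num)
  obtain ⟨k, hk⟩ := hfo.mem_powers_iff_mem_zpowers.2 (hR1 t htR)
  have hk' : t * w * t⁻¹ * w⁻¹ = y ^ k := hk.symm
  -- `w t w⁻¹ = y ^ (-k) t`
  have hwt : w * t * w⁻¹ = (y ^ k)⁻¹ * t := by
    rw [← hk']
    group
  have hwyj : ∀ j : ℕ, w * y ^ j * w⁻¹ = y ^ (4 * j) := by
    intro j
    rw [← conj_pow, hw, ← pow_mul]
  have hty : ∀ j : ℕ, t * y ^ j = y ^ j * t := fun j => (show Commute t y from ht).pow_right j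
  -- `z = y ^ j t`, `3 j = k` modulo `17`: `j = 6 k`
  have hyk : (y ^ k)⁻¹ = y ^ (16 * k) := by
    rw [inv_eq_iff_mul_eq_one, ← pow_add, show k + 16 * k = 17 * k by ring, pow_mul, hy17, one_pow]
  have hwz : w * (y ^ (6 * k) * t) * w⁻¹ = y ^ (6 * k) * t := by
    have e : w * (y ^ (6 * k) * t) * w⁻¹ = (w * y ^ (6 * k) * w⁻¹) * (w * t * w⁻¹) := by group
    rw [e, hwyj, hwt, hyk, ← mul_assoc, ← pow_add]
    congr 1
    rw [show 4 * (6 * k) + 16 * k = 17 * (2 * k) + 6 * k by ring, pow_add, pow_mul, hy17, one_pow, one_mul]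
  have hz1 : y ^ (6 * k) * t ∉ zpowers y := by
    intro h
    apply htY
    have h1 := (zpowers y).mul_mem ((zpowers y).inv_mem ((zpowers y).pow_mem (mem_zpowers y) (6 * k))) h
    rwa [inv_mul_cancel_left] at h1
  have hzy : (y ^ (6 * k) * t) * y = y * (y ^ (6 * k) * t) := by
    rw [mul_assoc, ht, ← mul_assoc, ← mul_assoc, ← pow_succ, ← pow_succ']
  refine ⟨y ^ (6 * k) * t, ?_, hzy, ?_⟩
  · have hzR : y ^ (6 * k) * t ∈ R := (R : Subgroup Q).mul_mem ((R : Subgroup Q).pow_mem hyR _) htR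
    generalize y ^ (6 * k) * t = z at hwz hz1 hzy hzR ⊢
    have hnorm : ((zpowers y).subgroupOf (R : Subgroup Q)).Normal := ⟨by
      rintro ⟨n, hn'⟩ hn ⟨g, hg⟩
      show g * n * g⁻¹ ∈ zpowers y
      rw [hRc g hg n hn', mul_inv_cancel_right]
      exact hn⟩
    have h1 := Subgroup.card_mul_index ((zpowers y).subgroupOf (R : Subgroup Q))
    have hYR : zpowers y ≤ (R : Subgroup Q) := hR
    rw [Nat.card_congr (Subgroup.subgroupOfEquivOfLe hYR).toEquiv, hY] at h1
    have h2 : ((zpowers y).subgroupOf (R : Subgroup Q)).index = 17 := by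
      have h3 : 17 * ((zpowers y).subgroupOf (R : Subgroup Q)).index = 289 := h1.trans hR289
      omega
    have h3 := Subgroup.pow_index_mem ((zpowers y).subgroupOf (R : Subgroup Q)) ⟨z, hzR⟩
    rw [h2] at h3
    have h4 : z ^ 17 ∈ zpowers y := h3
    obtain ⟨i, hi⟩ := hfo.mem_powers_iff_mem_zpowers.2 h4
    have hi' : y ^ i = z ^ 17 := hi
    have h5 : w * z ^ 17 * w⁻¹ = z ^ 17 := by rw [← conj_pow, hwz]
    rw [← hi', hwyj] at h5
    have h6 : 17 ∣ 3 * i := by
      rw [← hy]
      apply orderOf_dvd_of_pow_eq_one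
      have h7 : y ^ (3 * i) * y ^ i = 1 * y ^ i := by
        rw [← pow_add, show 3 * i + i = 4 * i by ring, h5, one_mul]
      exact mul_right_cancel h7
    have h7 : 17 ∣ i := (Nat.Coprime.dvd_mul_left (by norm_num : Nat.Coprime 17 3)).1 h6
    obtain ⟨i', rfl⟩ := h7
    rw [pow_mul, hy17, one_pow] at hi'
    refine orderOf_eq_prime hi'.symm (fun e => hz1 ?_)
    rw [e]
    exact one_mem _
  · exact mul_inv_eq_iff_eq_mul.1 hwz

end Cfsg.Agent.H621.EP.Sev
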