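import Cfsg.Agent.H284.EP.TForm

/-!
# Extremely primitive groups: an element with a unique maximal overgroup in the socle (helper621)

`mem_cj_of_unique` : `y` in the simple normal subgroup `N` of `A` lies in exactly one maximal subgroup of `N`, `w ∈ N`
normalises `⟨y⟩`; then every two point stabiliser with `y` contains `w`.
-/

set_option autoImplicit false
set_option linter.unusedSectionVars false

namespace Cfsg.Agent.H621.EP.Sev

open Subgroup Cfsg.Agent.H284

variable {Q : Type*} [Group Q] [Finite Q] {A N : Subgroup Q} {Γ : Subgroup (MulAut Q)}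

/-- the automorphisms of `A` preserve `N` (helper476) -/
theorem map_N (h : EPT A Γ) (hle : N ≤ A) (hnorm : ∀ a ∈ A, ∀ n ∈ N, a * n * a⁻¹ ∈ N)
    (hcent : ∀ a ∈ A, (∀ n ∈ N, a * n = n * a) → a = 1) (hs : IsSimpleGroup N) {σ : MulAut Q} (hσ : σ ∈ Γ) {k : Q}
    (hk : k ∈ N) : σ k ∈ N := by
  have hNne : N ≠ ⊥ := by
    intro e
    have := hs.toNontrivial
    rw [e] at this
    exact (not_nontrivial_iff_subsingleton.2 inferInstance) this
  set N' : Subgroup Q := N.map σ.toMonoidHom with hN'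
  have hN'A : N' ≤ A := by
    rintro _ ⟨n, hn, rfl⟩
    exact (h.inv σ hσ n).2 (hle hn)
  have hN'n : ∀ a ∈ A, ∀ n ∈ N', a * n * a⁻¹ ∈ N' := by
    rintro a ha _ ⟨n, hn, rfl⟩
    obtain ⟨b, rfl⟩ := σ.surjective a
    have hb : b ∈ A := (h.inv σ hσ b).1 ha
    refine ⟨b * n * b⁻¹, hnorm b hb n hn, ?_⟩
    show σ (b * n * b⁻¹) = σ b * σ n * (σ b)⁻¹
    rw [map_mul, map_mul, map_inv]
  have hn : ((N' ⊓ N).subgroupOf N).Normal := ⟨by
    rintro ⟨n, hn'⟩ hn ⟨a, ha⟩
    exact ⟨hN'n a (hle ha) n hn.1, N.mul_mem (N.mul_mem ha hn') (N.inv_mem ha)⟩⟩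
  rcases hn.eq_bot_or_eq_top with h4 | h4
  · exfalso
    apply hNne
    rw [Subgroup.eq_bot_iff_forall]
    intro n hn'
    have h5 : σ n = 1 := by
      have hσn : σ n ∈ N' := ⟨n, hn', rfl⟩
      apply hcent _ (hN'A hσn)
      intro b hb
      have h6 : σ n * b * (σ n)⁻¹ * b⁻¹ ∈ N' ⊓ N := by
        refine ⟨?_, ?_⟩
        · have : σ n * b * (σ n)⁻¹ * b⁻¹ = σ n * (b * (σ n)⁻¹ * b⁻¹) := by group
          rw [this]
          exact N'.mul_mem hσn (hN'n b (hle hb) _ (N'.inv_mem hσn))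
        · exact N.mul_mem (hnorm _ (hN'A hσn) b hb) (N.inv_mem hb)
      have h7 : (⟨σ n * b * (σ n)⁻¹ * b⁻¹, h6.2⟩ : N) ∈ (N' ⊓ N).subgroupOf N := h6
      rw [h4, mem_bot] at h7
      have h8 : σ n * b * (σ n)⁻¹ * b⁻¹ = 1 := congrArg Subtype.val h7
      rw [mul_inv_eq_one, mul_inv_eq_iff_eq_mul] at h8
      exact h8
    rwa [EmbeddingLike.map_eq_one_iff] at h5
  · have h5 : N ≤ N' := by
      intro n hn'
      have h6 : (⟨n, hn'⟩ : N) ∈ (N' ⊓ N).subgroupOf N := by rw [h4]; exact mem_top _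
      exact (mem_inf.1 h6).1
    have h6 : Nat.card N' = Nat.card N :=
      Nat.card_congr (N.equivMapOfInjective σ.toMonoidHom σ.injective).symm.toEquiv
    have h7 : N = N' := Subgroup.eq_of_le_of_card_ge h5 h6.le
    rw [h7]
    exact ⟨k, hk, rfl⟩

/-- the automorphism of `N` induced by `σ ∈ Γ` -/
theorem exists_res (h : EPT A Γ) (hle : N ≤ A) (hnorm : ∀ a ∈ A, ∀ n ∈ N, a * n * a⁻¹ ∈ N)
    (hcent : ∀ a ∈ A, (∀ n ∈ N, a * n = n * a) → a = 1) (hs : IsSimpleGroup N) {σ : MulAut Q} (hσ : σ ∈ Γ) :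
    ∃ τ : N ≃* N, ∀ n : N, ((τ n : N) : Q) = σ n := by
  refine ⟨{ toFun := fun n => ⟨σ n, map_N h hle hnorm hcent hs hσ n.2⟩
            invFun := fun n => ⟨σ⁻¹ n, map_N h hle hnorm hcent hs (Γ.inv_mem hσ) n.2⟩
            left_inv := fun n => Subtype.ext (MulAut.inv_apply_self Q σ n)
            right_inv := fun n => Subtype.ext (MulAut.apply_inv_self Q σ n)
            map_mul' := fun a b => Subtype.ext (map_mul σ _ _) }, fun n => rfl⟩

theorem map_coatom {G : Type*} [Group G] (τ : G ≃* G) {H : Subgroup G} (hH : IsCoatom H) :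
    IsCoatom (H.map τ.toMonoidHom) := by
  have : H.map τ.toMonoidHom = (MulEquiv.mapSubgroup τ) H := rfl
  rw [this]
  exact (OrderIso.isCoatom_iff _ _).2 hH

theorem mem_cj_of_unique (h : EPT A Γ) (hle : N ≤ A) (hnorm : ∀ a ∈ A, ∀ n ∈ N, a * n * a⁻¹ ∈ N)
    (hcent : ∀ a ∈ A, (∀ n ∈ N, a * n = n * a) → a = 1) (hs : IsSimpleGroup N) {y : N} (hy1 : y ≠ 1)
    (huniq : ∀ H H' : Subgroup N, IsCoatom H → IsCoatom H' → y ∈ H → y ∈ H' → H = H')
    {w : N} {k : ℕ} (hwy : (w * y * w⁻¹) ^ k = y) {x : Q} (hx : x ∉ A) (hyx : (y : Q) ∈ cj x A) :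
    (w : Q) ∈ cj x A := by
  -- `M₁ = N ∩ A^x`
  set M1 : Subgroup N := (cj x A).subgroupOf N with hM1
  have hNne : N ≠ ⊥ := by
    intro e
    apply hy1
    apply Subtype.ext
    exact Subgroup.mem_bot.1 (e.le y.2)
  have hM1top : M1 ≠ ⊤ := by
    intro e
    apply hNne
    refine h.F1 x hx N hle (fun σ hσ k hk => map_N h hle hnorm hcent hs hσ hk) ?_
    intro n hn
    have h1 : (⟨n, hn⟩ : N) ∈ M1 := by rw [e]; exact mem_top _
    exact h1
  obtain ⟨H, hH, hMH⟩ := (eq_top_or_exists_le_coatom M1).resolve_left hM1top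
  have hyM : y ∈ M1 := hyx
  have hyH : y ∈ H := hMH hyM
  -- `H` is not normal
  have hnn : ¬ H.Normal := by
    intro hn
    rcases hn.eq_bot_or_eq_top with e | e
    · rw [e, mem_bot] at hyH
      exact hy1 hyH
    · exact hH.1 e
  -- conjugation by an element which keeps `y` in `H`
  have hconj : ∀ g : N, y ∈ H.map (MulAut.conj g).toMonoidHom → H.map (MulAut.conj g).toMonoidHom = H := fun g hg =>
    huniq _ _ (map_coatom (MulAut.conj g) hH) hH hg hyH
  have hwH : w ∈ H := by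
    by_contra hwH
    have h1 : H.map (MulAut.conj w).toMonoidHom = H := by
      apply hconj
      have h2 : w * y * w⁻¹ ∈ H.map (MulAut.conj w).toMonoidHom := ⟨y, hyH, rfl⟩
      have h3 := Subgroup.pow_mem _ h2 k
      rwa [hwy] at h3
    have h2 : w ∈ Subgroup.normalizer (H : Set N) := by
      rw [Subgroup.mem_normalizer_iff]
      intro g
      constructor
      · intro hg
        have : w * g * w⁻¹ ∈ H.map (MulAut.conj w).toMonoidHom := ⟨g, hg, rfl⟩
        rwa [h1] at this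
      · intro hg
        rw [← h1] at hg
        obtain ⟨g', hg', e⟩ := hg
        have e' : w * g' * w⁻¹ = w * g * w⁻¹ := e
        have : g' = g := mul_left_cancel (mul_right_cancel e')
        rwa [← this]
    have h3 : Subgroup.normalizer (H : Set N) = ⊤ := by
      rcases hH.le_iff.1 (Subgroup.le_normalizer (H := H)) with e | e
      · exact e
      · exact absurd (e ▸ h2) hwH
    exact hnn (Subgroup.normalizer_eq_top_iff.1 h3)
  -- the stabiliser of `H` in `Γ`
  let L : Subgroup (MulAut Q) :=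
    { carrier := {σ | σ ∈ Γ ∧ ∀ n : Q, n ∈ H.map N.subtype ↔ σ n ∈ H.map N.subtype}
      mul_mem' := fun {a b} ha hb => ⟨Γ.mul_mem ha.1 hb.1, fun n => (hb.2 n).trans (ha.2 _)⟩
      one_mem' := ⟨Γ.one_mem, fun n => Iff.rfl⟩
      inv_mem' := fun {a} ha => ⟨Γ.inv_mem ha.1, fun n => by
        rw [ha.2 (a⁻¹ n), MulAut.apply_inv_self]⟩ }
  have hstab : ∀ σ ∈ Γ, x⁻¹ * σ x ∈ A → σ ∈ L := by
    intro σ hσ hσx
    refine ⟨hσ, ?_⟩
    obtain ⟨τ, hτ⟩ := exists_res h hle hnorm hcent hs hσ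
    -- `σ` preserves `A^x`
    have hcj : ∀ a : Q, a ∈ cj x A → σ a ∈ cj x A := by
      intro a ha
      rw [mem_cj] at ha ⊢
      have e : x⁻¹ * σ a * x = (x⁻¹ * σ x) * σ (x⁻¹ * a * x) * (x⁻¹ * σ x)⁻¹ := by
        rw [map_mul, map_mul, map_inv]
        group
      rw [e]
      exact A.mul_mem (A.mul_mem hσx ((h.inv σ hσ _).2 ha)) (A.inv_mem hσx)
    have hMM : M1.map τ.toMonoidHom = M1 := by
      apply Subgroup.eq_of_le_of_card_ge
      · rintro _ ⟨n, hn, rfl⟩
        show ((τ n : N) : Q) ∈ cj x A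
        rw [hτ]
        exact hcj _ hn
      · exact (Nat.card_congr (M1.equivMapOfInjective τ.toMonoidHom τ.injective).toEquiv).le
    have hHH : H.map τ.toMonoidHom = H := by
      apply huniq _ _ (map_coatom τ hH) hH _ hyH
      have : M1 ≤ H.map τ.toMonoidHom := by
        rw [← hMM]
        exact Subgroup.map_mono hMH
      exact this hyM
    intro n
    constructor
    · rintro ⟨n', hn', rfl⟩
      refine ⟨τ n', ?_, hτ n'⟩
      rw [← hHH]
      exact ⟨n', hn', rfl⟩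
    · rintro ⟨n', hn', e⟩
      have hn'' : n' ∈ H.map τ.toMonoidHom := by rw [hHH]; exact hn'
      obtain ⟨u, hu, rfl⟩ := hn''
      refine ⟨u, hu, ?_⟩
      apply σ.injective
      rw [← e]
      exact (hτ u).symm
  have hLΓ : L ≤ Γ := fun σ hσ => hσ.1
  rcases h.two x hx L hLΓ hstab with e | hL
  · exfalso
    apply hnn
    refine ⟨fun n hn g => ?_⟩
    have h1 : MulAut.conj (g : Q) ∈ L := by
      rw [e]
      exact (h.conj _).2 (hle g.2)
    obtain ⟨u, hu, hue⟩ := (h1.2 (n : Q)).1 ⟨n, hn, rfl⟩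
    have h2 : u = g * n * g⁻¹ := Subtype.ext hue
    rwa [← h2]
  · have h1 : MulAut.conj (w : Q) ∈ L := by
      refine ⟨(h.conj _).2 (hle w.2), fun n => ?_⟩
      constructor
      · rintro ⟨n', hn', rfl⟩
        exact ⟨w * n' * w⁻¹, H.mul_mem (H.mul_mem hwH hn') (H.inv_mem hwH), rfl⟩
      · rintro ⟨n', hn', e⟩
        refine ⟨w⁻¹ * n' * w, H.mul_mem (H.mul_mem (H.inv_mem hwH) hn') hwH, ?_⟩
        have e' : (n' : Q) = w * n * (w : Q)⁻¹ := e
        show (w : Q)⁻¹ * n' * w = n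
        rw [e']
        group
    have h2 := hL _ h1
    rw [mem_cj]
    have h3 : x⁻¹ * (w : Q) * x = x⁻¹ * (MulAut.conj (w : Q)) x * w := by
      rw [MulAut.conj_apply]
      group
    rw [h3]
    exact A.mul_mem h2 (hle w.2)

end Cfsg.Agent.H621.EP.Sev
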