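import Cfsg.Agent.H621.EP.SevMax
import Cfsg.Agent.H621.EP.SevGrp
import Cfsg.Agent.H621.EP.SevUniq
import Cfsg.Agent.H621.EP.OrdO
import Cfsg.Agent.H814.O8P.Num
import Cfsg.Agent.S0294
import Cfsg.Agent.S0818

/-!
# S3499: `Ω₈⁻(2) < Ω₈⁺(4)` is not extremely primitive (helper621)
-/

set_option autoImplicit false
set_option linter.unusedSectionVars false

namespace Cfsg.Agent.H621.EP.Sev

open Module Cfsg Cfsg.Geo Cfsg.Agent.H890.SpParity Cfsg.Agent.H419.EP Cfsg.Agent.H284 Subgroup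
open Cfsg.Agent.LieClassical.OrthFinite (glEquiv glEquiv_apply)
open scoped MatrixGroups

section form

variable {F : Type*} [Field F] {ι ι' : Type} [Fintype ι] [DecidableEq ι] [Fintype ι'] [DecidableEq ι']

theorem polar_comp (Q : (ι' → F) → F) (e : (ι → F) ≃ₗ[F] (ι' → F)) (x y : ι → F) :
    QuadraticMap.polar (fun v => Q (e v)) x y = QuadraticMap.polar Q (e x) (e y) := by
  rw [QuadraticMap.polar, QuadraticMap.polar, map_add]

/-- nondegenerate forms under a linear equivalence -/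
theorem nd_comp {Q : (ι' → F) → F} (h : IsNondegenerateQuadraticForm Q) (e : (ι → F) ≃ₗ[F] (ι' → F)) :
    IsNondegenerateQuadraticForm (fun v => Q (e v)) where
  smul := fun c v => by rw [map_smul, h.smul]
  polar_bilinear :=
    { add_left := fun x y v => by simp only [polar_comp, map_add]; exact h.polar_bilinear.add_left _ _ _
      smul_left := fun c x v => by simp only [polar_comp, map_smul]; exact h.polar_bilinear.smul_left _ _ _
      add_right := fun v x y => by simp only [polar_comp, map_add]; exact h.polar_bilinear.add_right _ _ _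
      smul_right := fun c v x => by simp only [polar_comp, map_smul]; exact h.polar_bilinear.smul_right _ _ _ }
  nondegenerate := fun v hv => by
    have hv' : e v ≠ 0 := fun h => hv ((LinearEquiv.map_eq_zero_iff e).1 h)
    obtain ⟨⟨x, hx⟩, ⟨x', hx'⟩⟩ := h.nondegenerate (e v) hv'
    refine ⟨⟨e.symm x, ?_⟩, ⟨e.symm x', ?_⟩⟩
    · rw [polar_comp, e.apply_symm_apply]
      exact hx
    · rw [polar_comp, e.apply_symm_apply]
      exact hx'

end form

/-- `PΩ₈⁻(2)` has a model on `Fin 8 → K` -/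
theorem exists_model8 {K : Type} [Field K] [Finite K] {a b : K}
    (hab : ∀ z₁ z₂ : K, z₁ ^ 2 + a * z₁ * z₂ + b * z₂ ^ 2 = 0 → z₁ = 0 ∧ z₂ = 0) {N : Type*} [Group N]
    (e : N ≃* POmega K (quadFormMinus 3 K a b)) :
    ∃ Qf : (Fin 8 → K) → K, IsNondegenerateQuadraticForm Qf ∧ ¬ IsPlusTypeOn Qf ⊤ ∧ Nonempty (Model N (omegaGL Qf)) := by
  have hι : Fintype.card ((Fin 3 ⊕ Fin 3) ⊕ Fin 2) = Fintype.card (Fin 8) := by
    simp only [Fintype.card_sum, Fintype.card_fin]
  let ε : (Fin 3 ⊕ Fin 3) ⊕ Fin 2 ≃ Fin 8 := Fintype.equivOfCardEq hι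
  let E : (Fin 8 → K) ≃ₗ[K] ((Fin 3 ⊕ Fin 3) ⊕ Fin 2 → K) := LinearEquiv.funCongrLeft K K ε
  let Q' := LieClassical.QuadForms.minusForm 3 K a b
  let Q8 : QuadraticForm K (Fin 8 → K) := Q'.comp E.toLinearMap
  have hQ8 : ∀ v, Q8 v = Q' (E v) := fun _ => rfl
  have hQ' : ⇑Q' = quadFormMinus 3 K a b := LieClassical.QuadForms.coe_minusForm ..
  have hnd : IsNondegenerateQuadraticForm (⇑Q8) := by
    have h1 : IsNondegenerateQuadraticForm (⇑Q') := by
      rw [hQ']
      exact H775.EP.nd_minus 3 K a b hab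
    exact nd_comp h1 E
  have hminus : ¬ IsPlusTypeOn (⇑Q8) ⊤ := fun h =>
    H955.not_isPlus_minus 3 hab (H955.IsPlus.of_equiv E (fun _ => rfl) (plusTop_iff.1 h))
  refine ⟨⇑Q8, hnd, hminus, ?_⟩
  obtain ⟨f⟩ := pomega_of_equiv (Q := Q') (Q' := Q8) E (fun u => rfl)
  rw [hQ'] at f
  exact ⟨(H775.EP.modelOmega hnd (by rw [Fintype.card_fin]; norm_num)).trans (e.trans f).symm⟩

/-- `|Ω₈⁻(2)|` -/
theorem card_minus8 {K : Type} [Field K] [Fintype K] (hK : Fintype.card K = 2) {a b : K}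
    (hab : ∀ z₁ z₂ : K, z₁ ^ 2 + a * z₁ * z₂ + b * z₂ ^ 2 = 0 → z₁ = 0 ∧ z₂ = 0) :
    Nat.card (POmega K (quadFormMinus 3 K a b)) = 197406720 := by
  have h := Cfsg.Agent.S0294.result (F := K) hK 4 le_rfl a b hab
  rw [show 4 - 1 = 3 from rfl] at h
  have h1 : Nat.gcd 4 (2 ^ 4 + 1) = 1 := by decide
  rw [h1, one_mul, Finset.prod_range_succ, Finset.prod_range_succ, Finset.prod_range_one] at h
  rw [h]
  norm_num

theorem card_aut8 {K : Type} [Field K] [Fintype K] (hK : Fintype.card K = 2) {a b : K}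
    (hab : ∀ z₁ z₂ : K, z₁ ^ 2 + a * z₁ * z₂ + b * z₂ ^ 2 = 0 → z₁ = 0 ∧ z₂ = 0) :
    Nat.card (MulAut (POmega K (quadFormMinus 3 K a b))) = 2 * Nat.card (POmega K (quadFormMinus 3 K a b)) := by
  have : Fact (Nat.Prime 2) := ⟨Nat.prime_two⟩
  have h := Cfsg.Agent.S0818.result (F := K) 2 1 le_rfl (by rw [hK, pow_one]) 4 le_rfl a b hab
  rw [if_pos rfl, mul_one] at h
  exact h

section geo

variable {F : Type} [Field F] [Fintype F]

/-- the geometric end: no `y, z, w` in `Ω(Q)` -/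
theorem no_yzw (hF : Fintype.card F = 4) {Q : Type*} [Group Q] {Qf : (Fin 8 → F) → F}
    (nd : IsNondegenerateQuadraticForm Qf) (m : Model Q (omegaGL Qf)) {y z w : Q} (hy : orderOf y = 17)
    (hz : orderOf z = 17) (hc : z * y = y * z) (hw4 : w ^ 4 = 1) (hwz : w * z = z * w)
    (hwy : w * y * w⁻¹ = y ^ 4) : False := by
  classical
  have h2 : (2 : F) = 0 := by
    have h1 : ((Fintype.card F : ℕ) : F) = 0 := Nat.cast_card_eq_zero F
    rw [hF] at h1
    push_cast at h1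
    have h3 : (2 : F) * 2 = 0 := by linear_combination h1
    rcases mul_eq_zero.1 h3 with h | h <;> exact h
  obtain ⟨Q', rfl, hnd⟩ := H883.Bridge.exists_quadraticForm nd
  have hG := Cfsg.Agent.LieClassical.OrthFinite.good_of_finite hnd
    (by rw [Module.finrank_fintype_fun_eq_card, Fintype.card_fin]; norm_num)
  -- `π` is injective
  have hinj : Function.Injective m.π := by
    rw [injective_iff_map_eq_one]
    intro s hs
    have h1 := (m.ker _).1 hs
    obtain ⟨c, hcs⟩ := h1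
    obtain ⟨v, hv⟩ : ∃ v, Q' v ≠ 0 := by
      by_contra hcon
      push Not at hcon
      obtain ⟨v, hv⟩ := exists_ne (0 : Fin 8 → F)
      obtain ⟨x, hx⟩ := (nd.nondegenerate v hv).2
      apply hx
      rw [QuadraticMap.polar, hcon, hcon, hcon, sub_zero, sub_zero]
    have h3 := Cfsg.Agent.LieClassical.OrthCore.mem_O.1 (Cfsg.Agent.LieClassical.OrthCore.E_le_O
      ((H883.Bridge.mem_omegaGL_iff hG (s : GL (Fin 8) F)).1 s.2)) v
    have h4 : glEquiv (Fin 8) F (s : GL (Fin 8) F) v = (c : F) • v := by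
      rw [← hcs, glEquiv_apply]
      show Matrix.mulVec (Matrix.scalar (Fin 8) (c : F)) v = (c : F) • v
      rw [Matrix.scalar_apply, ← Matrix.smul_one_eq_diagonal, Matrix.smul_mulVec, Matrix.one_mulVec]
    rw [h4, QuadraticMap.map_smul, smul_eq_mul] at h3
    have h5 : ((c : F) * c - 1) * Q' v = 0 := by rw [sub_mul, h3, one_mul, sub_self]
    have h6 : (c : F) * c - 1 = 0 := (mul_eq_zero.1 h5).resolve_right hv
    have h7 : ((c : F) - 1) * (c - 1) = 0 := by linear_combination h6 - (c - 1) * h2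
    have h8 : (c : F) = 1 := by
      rcases mul_eq_zero.1 h7 with h | h <;> exact sub_eq_zero.1 h
    have h9 : c = 1 := Units.ext h8
    apply Subtype.ext
    rw [← hcs, h9, map_one]
    rfl
  let E : omegaGL (⇑Q') ≃* Q := MulEquiv.ofBijective m.π ⟨hinj, m.surj⟩
  let ψ : Q →* ((Fin 8 → F) ≃ₗ[F] (Fin 8 → F)) :=
    ((glEquiv (Fin 8) F).toMonoidHom.comp (omegaGL (⇑Q')).subtype).comp E.symm.toMonoidHom
  have hψ : Function.Injective ψ :=
    ((glEquiv (Fin 8) F).injective.comp Subtype.val_injective).comp E.symm.injective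
  have h8 : finrank F (Fin 8 → F) = 8 := by rw [Module.finrank_fintype_fun_eq_card, Fintype.card_fin]
  have h5 := fix_w_five (y := ψ y) (z := ψ z) (w := ψ w) (by rw [Nat.card_eq_fintype_card, hF]) h2 h8
    (by rw [orderOf_injective ψ hψ, hy]) (by rw [orderOf_injective ψ hψ, hz]) (by rw [← map_mul, ← map_mul, hc])
    (by rw [← map_pow, hw4, map_one]) (by rw [← map_mul, ← map_mul, hwz])
    (by rw [← map_mul, ← map_pow, ← map_mul, ← hwy, inv_mul_cancel_right])
  have hE : ψ w ∈ Cfsg.Agent.LieClassical.OrthCore.E Q' := by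
    have h1 := (H883.Bridge.mem_omegaGL_iff hG ((E.symm w : omegaGL (⇑Q')) : GL (Fin 8) F)).1 (E.symm w).2
    exact h1
  have h6 := even_E hnd hE
  rw [h5, h8] at h6
  exact absurd h6 (by decide)

end geo

/-- **`Ω₈⁻(2) < Ω₈⁺(4)` is not extremely primitive** -/
theorem o8half {Q : Type} [Group Q] [Finite Q] {A : Subgroup Q} {Γ : Subgroup (MulAut Q)}
    (hk : ∀ (T : Type) [Group T] [Finite T] [IsSimpleGroup T], IsKnownSimple' T) (h : EPT A Γ)
    {F : Type} [Field F] [Fintype F] {Qf : (Fin 8 → F) → F} (m : Model Q (omegaGL Qf))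
    (hQ : IsNondegenerateQuadraticForm Qf) (hpl : IsPlusTypeOn Qf ⊤) {K : Type} [Field K] [Fintype K] (a b : K)
    (hab : ∀ z₁ z₂ : K, z₁ ^ 2 + a * z₁ * z₂ + b * z₂ ^ 2 = 0 → z₁ = 0 ∧ z₂ = 0) (hK : Fintype.card K = 2)
    (hF : Fintype.card F = 4) (hS : HasSoc A (POmega K (quadFormMinus 3 K a b))) : False := by
  classical
  have hAut := HasSoc.exists_hom hS
  obtain ⟨N, hle, hnorm, hcent, ⟨e⟩⟩ := hS
  have hNcard : Nat.card N = 197406720 := by rw [Nat.card_congr e.toEquiv, card_minus8 hK hab]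
  obtain ⟨Q8, nd8, minus8, ⟨m8⟩⟩ := exists_model8 hab e
  have hNs : IsSimpleGroup N := by
    have h1 : IsSimpleGroup (POmega K (quadFormMinus 3 K a b)) := by
      rw [← LieClassical.OrthForms.coe_minusForm]
      exact LieClassical.OrthFinite.isSimpleGroup_POmega (LieClassical.OrthForms.nondeg_minusForm 3 K a b hab)
        (by simp only [Fintype.card_sum, Fintype.card_fin]; norm_num)
    exact e.isSimpleGroup
  -- `y`
  have : Fact (Nat.Prime 17) := ⟨by norm_num⟩
  obtain ⟨y, hy⟩ := exists_prime_orderOf_dvd_card' (G := N) 17 (by rw [hNcard]; norm_num)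
  obtain ⟨hCy, w, hw4, hwy⟩ := exists_w hNcard hy (card_cent hK m8 hy)
  have hy1 : y ≠ 1 := fun e => by rw [e, orderOf_one] at hy; omega
  have hy17 : y ^ 17 = 1 := by rw [← hy]; exact pow_orderOf_eq_one y
  have hwyk : (w * y * w⁻¹) ^ 13 = y := by
    rw [hwy, ← pow_mul, show 4 * 13 = 17 * 3 + 1 by norm_num, pow_add, pow_mul, hy17, one_pow, one_mul, pow_one]
  have huniq : ∀ H H' : Subgroup N, IsCoatom H → IsCoatom H' → y ∈ H → y ∈ H' → H = H' := fun H H' h1 h2 h3 h4 =>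
    max_unique hk hK nd8 minus8 m8 h1 h2 hy h3 h4
  -- (CL)
  have hCL : ∀ t : Q, t * (y : Q) = y * t → t * (w : Q) * t⁻¹ ∈ A := by
    intro t ht
    refine EP.CL (Y := zpowers (y : Q)) (C := {(w : Q)}) (fun c hc => ?_) ?_ (fun x hx hYx c hc => ?_) (t := t)
      (fun g hg => ?_) rfl
    · rw [Set.mem_singleton_iff.1 hc]
      exact hle w.2
    · rw [zpowers_le]
      exact hle y.2
    · rw [Set.mem_singleton_iff.1 hc]
      exact mem_cj_of_unique h hle hnorm hcent hNs hy1 huniq hwyk hx (hYx (mem_zpowers _))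
    · obtain ⟨k, rfl⟩ := mem_zpowers_iff.1 hg
      have h1 : t * (y : Q) ^ k * t⁻¹ = (y : Q) ^ k := by
        rw [mul_inv_eq_iff_eq_mul]
        exact ((show Commute t (y : Q) from ht).zpow_right k).eq
      rw [h1]
      exact ⟨k, rfl⟩
  -- `D`
  let D : Subgroup Q := A ⊓ centralizer ({(y : Q)} : Set Q)
  have hDmem : ∀ d, d ∈ D ↔ d ∈ A ∧ d * (y : Q) = y * d := by
    intro d
    rw [mem_inf, mem_centralizer_iff]
    constructor
    · rintro ⟨h1, h2⟩
      exact ⟨h1, (h2 _ rfl).symm⟩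
    · rintro ⟨h1, h2⟩
      refine ⟨h1, fun g hg => ?_⟩
      rw [Set.mem_singleton_iff.1 hg]
      exact h2.symm
  have hDN : D ⊓ N = (zpowers (y : Q)) := by
    ext d
    constructor
    · rintro ⟨h1, h2⟩
      have h3 := hCy ⟨d, h2⟩ (Subtype.ext ((hDmem d).1 h1).2)
      obtain ⟨k, hk'⟩ := mem_zpowers_iff.1 h3
      exact mem_zpowers_iff.2 ⟨k, congrArg Subtype.val hk'⟩
    · intro hd
      obtain ⟨k, rfl⟩ := mem_zpowers_iff.1 hd
      refine ⟨(hDmem _).2 ⟨hle (N.zpow_mem y.2 k), ?_⟩, N.zpow_mem y.2 k⟩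
      exact ((Commute.refl (y : Q)).zpow_left k).eq
  have hyo : orderOf (y : Q) = 17 := by rw [← hy]; exact Subgroup.orderOf_coe y
  have hDcard : Nat.card D ∣ 34 := by
    have hDA : D ≤ A := inf_le_left
    obtain ⟨f, hf⟩ := hAut
    have hA : Nat.card A ∣ 2 * Nat.card N := by
      have h1 := Subgroup.card_dvd_of_injective f hf
      rw [card_aut8 hK hab] at h1
      rwa [Nat.card_congr e.toEquiv]
    -- `|A : N| ∣ 2`
    let N' : Subgroup A := N.subgroupOf A
    let D' : Subgroup A := D.subgroupOf A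
    have hN'c : Nat.card N' = Nat.card N := Nat.card_congr (Subgroup.subgroupOfEquivOfLe hle).toEquiv
    have hD'c : Nat.card D' = Nat.card D := Nat.card_congr (Subgroup.subgroupOfEquivOfLe hDA).toEquiv
    have hidx : N'.index ∣ 2 := by
      have h1 : Nat.card N' * N'.index = Nat.card A := N'.card_mul_index
      rw [hN'c] at h1
      have h2 : Nat.card N * N'.index ∣ Nat.card N * 2 := by
        rw [h1, mul_comm _ 2]
        exact hA
      exact (Nat.mul_dvd_mul_iff_left Nat.card_pos).1 h2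
    have hN'n : N'.Normal := ⟨fun n hn g => hnorm g g.2 n hn⟩
    have hrel : N'.relIndex D' ∣ 2 := (Subgroup.relIndex_dvd_index_of_normal N' D').trans hidx
    have h3 : Nat.card (N' ⊓ D' : Subgroup A) * N'.relIndex D' = Nat.card D' := by
      rw [← Subgroup.inf_relIndex_right, ← Subgroup.relIndex_bot_left (N' ⊓ D'), ← Subgroup.relIndex_bot_left D']
      exact Subgroup.relIndex_mul_relIndex ⊥ (N' ⊓ D') D' bot_le inf_le_right
    have h4 : Nat.card (N' ⊓ D' : Subgroup A) = 17 := by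
      have h5 : N' ⊓ D' = (D ⊓ N).subgroupOf A := by
        rw [inf_comm]
        rfl
      rw [h5, Nat.card_congr (Subgroup.subgroupOfEquivOfLe (inf_le_left.trans hDA)).toEquiv, hDN, Nat.card_zpowers,
        hyo]
    rw [← hD'c, ← h3, h4]
    exact mul_dvd_mul_left 17 hrel
  have hK8 : ∀ t : Q, t * (y : Q) = y * t → t * (w : Q) * t⁻¹ * (w : Q)⁻¹ ∈ D := by
    intro t ht
    refine (hDmem _).2 ⟨A.mul_mem (hCL t ht) (A.inv_mem (hle w.2)), ?_⟩
    have hyQ : (w : Q) * y * (w : Q)⁻¹ = (y : Q) ^ 4 := congrArg Subtype.val hwy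
    have hy17Q : (y : Q) ^ 17 = 1 := congrArg Subtype.val hy17
    have h1 : (w : Q)⁻¹ * y * w = (y : Q) ^ 13 := by
      have h2 : (w : Q) * (y : Q) ^ 13 * (w : Q)⁻¹ = y := by
        rw [← conj_pow, hyQ, ← pow_mul, show 4 * 13 = 17 * 3 + 1 by norm_num, pow_add, pow_mul, hy17Q, one_pow,
          one_mul, pow_one]
      calc (w : Q)⁻¹ * y * w = (w : Q)⁻¹ * ((w : Q) * (y : Q) ^ 13 * (w : Q)⁻¹) * w := by rw [h2]
        _ = (y : Q) ^ 13 := by group
    have h3 : t⁻¹ * (y : Q) ^ 13 = (y : Q) ^ 13 * t⁻¹ :=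
      ((show Commute t (y : Q) from ht).inv_left.pow_right 13).eq
    calc t * (w : Q) * t⁻¹ * (w : Q)⁻¹ * y = t * w * t⁻¹ * ((w : Q)⁻¹ * y * w) * (w : Q)⁻¹ := by group
      _ = t * w * (t⁻¹ * (y : Q) ^ 13) * (w : Q)⁻¹ := by rw [h1, ← mul_assoc]
      _ = t * w * ((w : Q)⁻¹ * y * w) * t⁻¹ * (w : Q)⁻¹ := by rw [h3, h1]; group
      _ = t * y * (w * t⁻¹ * (w : Q)⁻¹) := by group
      _ = y * t * (w * t⁻¹ * (w : Q)⁻¹) := by rw [ht]
      _ = y * (t * (w : Q) * t⁻¹ * (w : Q)⁻¹) := by group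
  have hQcard : (Nat.card Q).factorization 17 = 2 := by
    have h1 : Nat.card Q = 17 ^ 2 * 231871610880000 := by
      rw [H814.O8P.card_even hQ hpl (Fintype.card_fin 8) m (by rw [hF]; decide), hF]
      norm_num [H814.O8P.N8]
    rw [h1, Nat.factorization_mul (by norm_num) (by norm_num), Finsupp.add_apply, Nat.Prime.factorization_pow (by norm_num),
      Finsupp.single_eq_same, Nat.factorization_eq_zero_of_not_dvd (by norm_num)]
  obtain ⟨z, hz, hzy, hwz⟩ := exists_z hQcard hyo (congrArg Subtype.val hwy) ((hDmem _).2 ⟨hle y.2, rfl⟩) hDcard hK8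
  exact no_yzw hF hQ m hyo hz hzy (congrArg Subtype.val hw4) hwz (congrArg Subtype.val hwy)

end Cfsg.Agent.H621.EP.Sev
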