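import Cfsg.Agent.H621.EP.SevLin
import Cfsg.Agent.LieClassical.OrthFinite
import Cfsg.Prelude.Def_GeometricClasses

/-!
# S3499, `Ω₈⁻(2) < Ω₈⁺(4)`: an element of order `17` on `F₂^8` (helper621)

* `Irr` : no invariant subspaces; `comm_of_comm` : the centraliser is commutative; `fs_unique` : at most one field
  subalgebra of degree `2` is normalised by `y`.
-/

set_option autoImplicit false
set_option linter.unusedSectionVars false
set_option linter.style.haveILetI false

namespace Cfsg.Agent.H621.EP.Sev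

open Module Cfsg Cfsg.Geo Cfsg.Agent.H890.SpParity
open scoped MatrixGroups

section lin

variable {F V : Type*} [Field F] [Finite F] [AddCommGroup V] [Module F V] [FiniteDimensional F V]

theorem card_sub2 (hF : Nat.card F = 2) (U : Submodule F V) : Nat.card {v // v ∈ U ∧ v ≠ 0} + 1 = 2 ^ finrank F U := by
  classical
  have hfV : Finite V := Module.finite_of_finite F
  have h1 : Nat.card U = 2 ^ finrank F U := by
    rw [Module.natCard_eq_pow_finrank (K := F), hF]
  have h2 : Nat.card {v // v ∈ U ∧ v ≠ 0} + 1 = Nat.card U := by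
    have h3 : Nat.card {v // v ∈ U ∧ v ≠ 0} = (((U : Set V) \ {0}) : Set V).ncard := by
      rw [← Nat.card_coe_set_eq]
      rfl
    rw [h3, Set.ncard_sdiff_singleton_add_one (show (0 : V) ∈ (U : Set V) from U.zero_mem) (Set.toFinite _),
      ← Nat.card_coe_set_eq]
    rfl
  rw [h2, h1]

theorem dim2_of_free (hF : Nat.card F = 2) (h8 : finrank F V = 8) {r : V ≃ₗ[F] V} (hr : r ^ 17 = 1)
    {U : Submodule F V} (hU : ∀ v ∈ U, r v ∈ U) (hf : ∀ v ∈ U, r v = v → v = 0) :
    finrank F U = 0 ∨ finrank F U = 8 := by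
  have hfV : Finite V := Module.finite_of_finite F
  have : Fact (Nat.Prime 17) := ⟨by norm_num⟩
  have h1 := H955.dvd_card_of_free_linear (T := r) hr (fun v => v ∈ U ∧ v ≠ 0)
    (fun v hv => ⟨hU v hv.1, fun e => hv.2 (by rwa [LinearEquiv.map_eq_zero_iff] at e)⟩)
    (fun v hv e => hv.2 (hf v hv.1 e))
  have h2 := card_sub2 hF U
  have h3 : finrank F U ≤ 8 := h8 ▸ Submodule.finrank_le U
  generalize finrank F U = d at h2 h3
  generalize Nat.card {v // v ∈ U ∧ v ≠ 0} = n at h1 h2
  obtain ⟨k, rfl⟩ := h1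
  interval_cases d <;> omega

/-- an element of order `17` has no fixed points -/
theorem free2 (hF : Nat.card F = 2) (h2 : (2 : F) = 0) (h8 : finrank F V = 8) {r : V ≃ₗ[F] V} (hr : r ^ 17 = 1)
    (hr1 : r ≠ 1) : ∀ v, r v = v → v = 0 := by
  have hmem : ∀ v, v ∈ LinearMap.range (r.toLinearMap - LinearMap.id) ↔ ∃ u, v = r u - u := by
    intro v
    constructor
    · rintro ⟨u, rfl⟩
      exact ⟨u, rfl⟩
    · rintro ⟨u, rfl⟩
      exact ⟨u, rfl⟩
  have h1 := dim2_of_free hF h8 hr (U := LinearMap.range (r.toLinearMap - LinearMap.id)) (fun v hv => by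
      rw [hmem] at hv ⊢
      obtain ⟨u, rfl⟩ := hv
      exact ⟨r u, by rw [map_sub]⟩) (fun v hv h => by
      obtain ⟨u, hu⟩ := (hmem v).1 hv
      exact range_inf_fix h2 hr hu h)
  have h3 : finrank F (LinearMap.range (r.toLinearMap - LinearMap.id)) + finrank F (fix r) = 8 := by
    have := LinearMap.finrank_range_add_finrank_ker (r.toLinearMap - LinearMap.id)
    rw [h8] at this
    exact this
  have h4 : finrank F (fix r) ≠ 8 := by
    intro e
    apply hr1
    have h1 : fix r = ⊤ := Submodule.eq_top_of_finrank_eq (by rw [e, h8])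
    apply LinearEquiv.ext
    intro v
    have : v ∈ fix r := by rw [h1]; exact Submodule.mem_top
    exact mem_fix.1 this
  intro v hv
  have h5 : fix r = ⊥ := Submodule.finrank_eq_zero.1 (by omega)
  have h6 : v ∈ fix r := mem_fix.2 hv
  rw [h5] at h6
  exact (Submodule.mem_bot F).1 h6

/-- an element of order `17` acts irreducibly -/
theorem irr2 (hF : Nat.card F = 2) (h2 : (2 : F) = 0) (h8 : finrank F V = 8) {r : V ≃ₗ[F] V} (hr : r ^ 17 = 1)
    (hr1 : r ≠ 1) {U : Submodule F V} (hU : ∀ v ∈ U, r v ∈ U) : U = ⊥ ∨ U = ⊤ := by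
  rcases dim2_of_free hF h8 hr hU (fun v _ => free2 hF h2 h8 hr hr1 v) with h | h
  · exact Or.inl (Submodule.finrank_eq_zero.1 h)
  · exact Or.inr (Submodule.eq_top_of_finrank_eq (by rw [h, h8]))

/-- the centraliser is commutative -/
theorem comm_of_comm {r : V ≃ₗ[F] V} (hir : ∀ U : Submodule F V, (∀ v ∈ U, r v ∈ U) → U = ⊥ ∨ U = ⊤)
    (h8 : finrank F V = 8) {A B : Module.End F V} (hA : ∀ v, A (r v) = r (A v)) (hB : ∀ v, B (r v) = r (B v)) :
    A * B = B * A := by
  have hnt : Nontrivial V := by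
    rw [← Module.finrank_pos_iff (R := F)]
    omega
  obtain ⟨v0, hv0⟩ := exists_ne (0 : V)
  let R : Module.End F V := r.toLinearMap
  let Φ : Polynomial F →ₗ[F] V := (LinearMap.applyₗ v0).comp (Polynomial.aeval R).toLinearMap
  have hΦ : ∀ f, Φ f = (Polynomial.aeval R f) v0 := fun _ => rfl
  have h1 : LinearMap.range Φ = ⊤ := by
    rcases hir (LinearMap.range Φ) (by
      rintro _ ⟨f, rfl⟩
      refine ⟨Polynomial.X * f, ?_⟩
      rw [hΦ, hΦ, map_mul, Polynomial.aeval_X]
      rfl) with h | h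
    · exfalso
      apply hv0
      have h3 : Φ 1 ∈ LinearMap.range Φ := ⟨1, rfl⟩
      rw [h, Submodule.mem_bot, hΦ, map_one] at h3
      exact h3
    · exact h
  obtain ⟨f, hf⟩ : A v0 ∈ LinearMap.range Φ := by rw [h1]; exact Submodule.mem_top
  rw [hΦ] at hf
  have hcR : ∀ C : Module.End F V, (∀ v, C (r v) = r (C v)) → Commute C R := fun C hC => LinearMap.ext hC
  have hcf : ∀ C : Module.End F V, (∀ v, C (r v) = r (C v)) → Commute C (Polynomial.aeval R f) := by
    intro C hC
    have h3 : Polynomial.aeval R f ∈ Subalgebra.centralizer F {C} := by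
      have h4 : Algebra.adjoin F {R} ≤ Subalgebra.centralizer F {C} := by
        rw [Algebra.adjoin_le_iff]
        intro x hx
        rw [Set.mem_singleton_iff.1 hx]
        show R ∈ Subalgebra.centralizer F {C}
        rw [Subalgebra.mem_centralizer_iff]
        intro g hg
        rw [Set.mem_singleton_iff.1 hg]
        exact hcR C hC
      exact h4 (Polynomial.aeval_mem_adjoin_singleton F R)
    rw [Subalgebra.mem_centralizer_iff] at h3
    exact h3 C rfl
  have hAf : A = Polynomial.aeval R f := by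
    have h3 : LinearMap.ker (A - Polynomial.aeval R f) = ⊤ := by
      rcases hir (LinearMap.ker (A - Polynomial.aeval R f)) (by
        intro v hv
        rw [LinearMap.mem_ker, LinearMap.sub_apply, sub_eq_zero] at hv ⊢
        have h4 : (Polynomial.aeval R f) (r v) = r ((Polynomial.aeval R f) v) := by
          have h5 := hcf R (fun _ => rfl)
          exact (LinearMap.congr_fun h5.eq v).symm
        rw [hA, hv, h4]) with h | h
      · exfalso
        apply hv0
        have h4 : v0 ∈ LinearMap.ker (A - Polynomial.aeval R f) := by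
          rw [LinearMap.mem_ker, LinearMap.sub_apply, sub_eq_zero]
          exact hf.symm
        rw [h] at h4
        exact (Submodule.mem_bot F).1 h4
      · exact h
    rw [LinearMap.ker_eq_top, sub_eq_zero] at h3
    exact h3
  rw [hAf]
  exact (hcf B hB).eq.symm

end lin

section mat

variable {F : Type*} [Field F] [Finite F]

open Cfsg.Agent.LieClassical.OrthFinite (glEquiv glEquiv_apply)

/-- the elements of a field subalgebra of degree `2` over `F₂` -/
theorem fs_elems (hF : Nat.card F = 2) (h2 : (2 : F) = 0) {K : Subalgebra F (Matrix (Fin 8) (Fin 8) F)}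
    (hK : IsFieldSubalgebra 2 K) : ∃ ζ ∈ K, ζ * ζ = ζ + 1 ∧ ∀ k ∈ K, k = 0 ∨ k = 1 ∨ k = ζ ∨ k = ζ + 1 := by
  classical
  have hfM : Finite (Matrix (Fin 8) (Fin 8) F) := inferInstance
  have hcard : Nat.card K = 4 := by
    rw [Module.natCard_eq_pow_finrank (K := F), hF, hK.finrank_eq]
    norm_num
  have hadd : ∀ x : Matrix (Fin 8) (Fin 8) F, x + x = 0 := fun x => by rw [← two_smul F, h2, zero_smul]
  have h01 : (0 : Matrix (Fin 8) (Fin 8) F) ≠ 1 := zero_ne_one
  obtain ⟨ζ, hζ, hζ'⟩ : ∃ ζ ∈ K, ζ ≠ 0 ∧ ζ ≠ 1 := by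
    by_contra hcon
    push Not at hcon
    have h1 : ((K : Set (Matrix (Fin 8) (Fin 8) F))).ncard ≤ ({0, 1} : Set (Matrix (Fin 8) (Fin 8) F)).ncard := by
      refine Set.ncard_le_ncard ?_ (Set.toFinite _)
      intro k hk
      by_cases h : k = 0
      · exact Or.inl h
      · exact Or.inr (hcon k hk h)
    have h3 : ((K : Set (Matrix (Fin 8) (Fin 8) F))).ncard = 4 := by rw [← Nat.card_coe_set_eq]; exact hcard
    have h4 := Set.ncard_insert_le (0 : Matrix (Fin 8) (Fin 8) F) {1}
    rw [Set.ncard_singleton] at h4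
    omega
  obtain ⟨hz0, hz1⟩ := hζ'
  have hz10 : ζ + 1 ≠ 0 := fun e => hz1 (by
    have : ζ + 1 + 1 = 0 + 1 := by rw [e]
    rwa [add_assoc, hadd, add_zero, zero_add] at this)
  have hall : ∀ k ∈ K, k = 0 ∨ k = 1 ∨ k = ζ ∨ k = ζ + 1 := by
    have hsub : ({0, 1, ζ, ζ + 1} : Set (Matrix (Fin 8) (Fin 8) F)) ⊆ K := by
      intro k hk
      rcases hk with rfl | rfl | rfl | rfl
      · exact K.zero_mem
      · exact K.one_mem
      · exact hζ
      · exact K.add_mem hζ K.one_mem
    have hn : ({0, 1, ζ, ζ + 1} : Set (Matrix (Fin 8) (Fin 8) F)).ncard = 4 := by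
      have e1 : ζ ≠ ζ + 1 := fun e => h01 (by
        have : ζ + 0 = ζ + 1 := by rw [add_zero]; exact e
        exact add_left_cancel this)
      have e2 : (1 : Matrix (Fin 8) (Fin 8) F) ≠ ζ + 1 := fun e => hz0 (by
        have : 0 + 1 = ζ + 1 := by rw [zero_add]; exact e
        exact (add_right_cancel this).symm)
      rw [Set.ncard_insert_of_notMem (by
          rintro (h | h | h)
          · exact h01 h
          · exact hz0 h.symm
          · exact hz10 h.symm) (Set.toFinite _),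
        Set.ncard_insert_of_notMem (by
          rintro (h | h)
          · exact hz1 h.symm
          · exact e2 h) (Set.toFinite _),
        Set.ncard_pair e1]
    have heq : ({0, 1, ζ, ζ + 1} : Set (Matrix (Fin 8) (Fin 8) F)) = K := by
      refine Set.eq_of_subset_of_ncard_le hsub ?_ (Set.toFinite _)
      rw [hn, ← Nat.card_coe_set_eq]
      exact hcard.le
    intro k hk
    have h1 : k ∈ ({0, 1, ζ, ζ + 1} : Set (Matrix (Fin 8) (Fin 8) F)) := by rw [heq]; exact hk
    exact h1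
  refine ⟨ζ, hζ, ?_, hall⟩
  obtain ⟨η, hη, hζη⟩ := hK.inv ζ hζ hz0
  obtain ⟨θ, hθ, hζθ⟩ := hK.inv (ζ + 1) (K.add_mem hζ K.one_mem) hz10
  rcases hall (ζ * ζ) (K.mul_mem hζ hζ) with h | h | h | h
  · exfalso
    apply hz0
    have : ζ * ζ * η = ζ := by rw [mul_assoc, hζη, mul_one]
    rw [← this, h, zero_mul]
  · exfalso
    apply hz10
    have h3 : (ζ + 1) * (ζ + 1) = 0 := by
      rw [add_mul, mul_add, mul_one, one_mul, h]
      have : (1 : Matrix (Fin 8) (Fin 8) F) + ζ + (ζ + 1) = (ζ + ζ) + (1 + 1) := by abel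
      rw [this, hadd, hadd, add_zero]
    have : (ζ + 1) * (ζ + 1) * θ = ζ + 1 := by rw [mul_assoc, hζθ, mul_one]
    rw [← this, h3, zero_mul]
  · exfalso
    apply hz1
    have : ζ * ζ * η = ζ := by rw [mul_assoc, hζη, mul_one]
    rw [← this, h, hζη]
  · exact h

/-- an element of order `17` of the normaliser centralises the field subalgebra -/
theorem fs_comm (hF : Nat.card F = 2) {y : GL (Fin 8) F} (hy : y ^ 17 = 1)
    {K : Subalgebra F (Matrix (Fin 8) (Fin 8) F)} (hK : IsFieldSubalgebra 2 K) (hyK : y ∈ subalgebraNormalizer K) :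
    ∀ k ∈ K, (y : Matrix (Fin 8) (Fin 8) F) * k = k * (y : Matrix (Fin 8) (Fin 8) F) := by
  classical
  have hfM : Finite (Matrix (Fin 8) (Fin 8) F) := inferInstance
  have hfK : Finite K := inferInstance
  have := Fintype.ofFinite K
  have hcard : Nat.card K = 4 := by
    rw [Module.natCard_eq_pow_finrank (K := F), hF, hK.finrank_eq]
    norm_num
  have hyK' : y⁻¹ ∈ subalgebraNormalizer K := (subalgebraNormalizer K).inv_mem hyK
  let σ : Equiv.Perm K :=
    { toFun := fun k => ⟨(y : Matrix (Fin 8) (Fin 8) F) * k * ((y⁻¹ : GL (Fin 8) F) : Matrix (Fin 8) (Fin 8) F),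
        (hyK k).1 k.2⟩
      invFun := fun k => ⟨((y⁻¹ : GL (Fin 8) F) : Matrix (Fin 8) (Fin 8) F) * k * (y : Matrix (Fin 8) (Fin 8) F), by
        have := (hyK' (k : Matrix (Fin 8) (Fin 8) F)).1 k.2
        rwa [inv_inv] at this⟩
      left_inv := by
        rintro ⟨k, hk⟩
        apply Subtype.ext
        show ((y⁻¹ : GL (Fin 8) F) : Matrix (Fin 8) (Fin 8) F) * ((y : Matrix (Fin 8) (Fin 8) F) * k *
          ((y⁻¹ : GL (Fin 8) F) : Matrix (Fin 8) (Fin 8) F)) * (y : Matrix (Fin 8) (Fin 8) F) = k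
        rw [← mul_assoc, ← mul_assoc, ← Units.val_mul, inv_mul_cancel, Units.val_one, one_mul, mul_assoc,
          ← Units.val_mul, inv_mul_cancel, Units.val_one, mul_one]
      right_inv := by
        rintro ⟨k, hk⟩
        apply Subtype.ext
        show (y : Matrix (Fin 8) (Fin 8) F) * (((y⁻¹ : GL (Fin 8) F) : Matrix (Fin 8) (Fin 8) F) * k *
          (y : Matrix (Fin 8) (Fin 8) F)) * ((y⁻¹ : GL (Fin 8) F) : Matrix (Fin 8) (Fin 8) F) = k
        rw [← mul_assoc, ← mul_assoc, ← Units.val_mul, mul_inv_cancel, Units.val_one, one_mul, mul_assoc,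
          ← Units.val_mul, mul_inv_cancel, Units.val_one, mul_one] }
  have hσ : ∀ (j : ℕ) (k : K), (((σ ^ j) k : K) : Matrix (Fin 8) (Fin 8) F) =
      ((y ^ j : GL (Fin 8) F) : Matrix (Fin 8) (Fin 8) F) * k * (((y ^ j)⁻¹ : GL (Fin 8) F) : Matrix (Fin 8) (Fin 8) F) := by
    intro j
    induction j with
    | zero =>
      intro k
      rw [pow_zero, pow_zero, inv_one, Units.val_one, one_mul, mul_one]
      rfl
    | succ j ih =>
      intro k
      rw [pow_succ', Equiv.Perm.mul_apply]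
      show (y : Matrix (Fin 8) (Fin 8) F) * (((σ ^ j) k : K) : Matrix (Fin 8) (Fin 8) F) *
        ((y⁻¹ : GL (Fin 8) F) : Matrix (Fin 8) (Fin 8) F) = _
      rw [ih, pow_succ', mul_inv_rev, Units.val_mul, Units.val_mul]
      simp only [mul_assoc]
  have hσ17 : σ ^ 17 = 1 := by
    apply Equiv.ext
    intro k
    apply Subtype.ext
    rw [hσ, hy, inv_one, Units.val_one, one_mul, mul_one]
    rfl
  have h1 : orderOf σ ∣ 17 := orderOf_dvd_of_pow_eq_one hσ17
  have h3 : orderOf σ ∣ 24 := by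
    have h4 := orderOf_dvd_card (x := σ)
    rw [Fintype.card_perm, ← Nat.card_eq_fintype_card, hcard] at h4
    exact h4
  have h4 : orderOf σ = 1 := Nat.dvd_one.1 (by
    have := Nat.dvd_gcd h1 h3
    rwa [show Nat.gcd 17 24 = 1 by norm_num] at this)
  have h5 : σ = 1 := orderOf_eq_one_iff.1 h4
  intro k hk
  have h6 : (((σ : Equiv.Perm K) ⟨k, hk⟩ : K) : Matrix (Fin 8) (Fin 8) F) = k := by rw [h5]; rfl
  have h7 : (y : Matrix (Fin 8) (Fin 8) F) * k * ((y⁻¹ : GL (Fin 8) F) : Matrix (Fin 8) (Fin 8) F) = k := h6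
  have h8 : (y : Matrix (Fin 8) (Fin 8) F) * k * ((y⁻¹ : GL (Fin 8) F) : Matrix (Fin 8) (Fin 8) F) *
      (y : Matrix (Fin 8) (Fin 8) F) = k * (y : Matrix (Fin 8) (Fin 8) F) := by rw [h7]
  rwa [mul_assoc, ← Units.val_mul, inv_mul_cancel, Units.val_one, mul_one] at h8

/-- **at most one field subalgebra of degree `2` is normalised by `y`** -/
theorem fs_unique (hF : Nat.card F = 2) (h2 : (2 : F) = 0) {y : GL (Fin 8) F} (hy : y ^ 17 = 1) (hy1 : y ≠ 1)
    {K K' : Subalgebra F (Matrix (Fin 8) (Fin 8) F)} (hK : IsFieldSubalgebra 2 K) (hK' : IsFieldSubalgebra 2 K')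
    (hyK : y ∈ subalgebraNormalizer K) (hyK' : y ∈ subalgebraNormalizer K') : K = K' := by
  classical
  obtain ⟨ζ, hζ, hζ2, hall⟩ := fs_elems hF h2 hK
  obtain ⟨ζ', hζ', hζ2', hall'⟩ := fs_elems hF h2 hK'
  have hadd : ∀ x : Matrix (Fin 8) (Fin 8) F, x + x = 0 := fun x => by rw [← two_smul F, h2, zero_smul]
  have h8 : finrank F (Fin 8 → F) = 8 := by rw [Module.finrank_fintype_fun_eq_card, Fintype.card_fin]
  let r := glEquiv (Fin 8) F y
  have hr : r ^ 17 = 1 := by rw [← map_pow, hy, map_one]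
  have hr1 : r ≠ 1 := fun e => hy1 ((glEquiv (Fin 8) F).injective (by rw [map_one]; exact e))
  have hir : ∀ U : Submodule F (Fin 8 → F), (∀ v ∈ U, r v ∈ U) → U = ⊥ ∨ U = ⊤ := fun U hU =>
    irr2 hF h2 h8 hr hr1 hU
  have hlin : ∀ k : Matrix (Fin 8) (Fin 8) F, (y : Matrix (Fin 8) (Fin 8) F) * k = k * (y : Matrix (Fin 8) (Fin 8) F) →
      ∀ v, Matrix.toLin' k (r v) = r (Matrix.toLin' k v) := by
    intro k hk v
    rw [glEquiv_apply, glEquiv_apply, Matrix.toLin'_apply, Matrix.toLin'_apply, Matrix.mulVec_mulVec,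
      Matrix.mulVec_mulVec, hk]
  have hcomm : ζ * ζ' = ζ' * ζ := by
    have h3 := comm_of_comm hir h8 (hlin ζ (fs_comm hF hy hK hyK ζ hζ)) (hlin ζ' (fs_comm hF hy hK' hyK' ζ' hζ'))
    apply Matrix.toLin'.injective
    rw [Matrix.toLin'_mul, Matrix.toLin'_mul]
    exact h3
  have hprod : (ζ' + ζ) * (ζ' + ζ + 1) = 0 := by
    have e : (ζ' + ζ) * (ζ' + ζ + 1) = ζ' * ζ' + ζ * ζ + (ζ' * ζ + ζ * ζ') + (ζ' + ζ) := by
      rw [mul_add, mul_add, add_mul, add_mul, mul_one]
      abel
    rw [e, hζ2, hζ2', hcomm, hadd, add_zero]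
    have e2 : ζ' + 1 + (ζ + 1) + (ζ' + ζ) = (ζ' + ζ') + (ζ + ζ) + (1 + 1) := by abel
    rw [e2]
    simp only [hadd, add_zero]
  have hyc : (y : Matrix (Fin 8) (Fin 8) F) * (ζ' + ζ + 1) = (ζ' + ζ + 1) * (y : Matrix (Fin 8) (Fin 8) F) := by
    rw [mul_add, mul_add, add_mul, add_mul, fs_comm hF hy hK hyK ζ hζ, fs_comm hF hy hK' hyK' ζ' hζ', mul_one, one_mul]
  have hcase : ζ' + ζ + 1 = 0 ∨ ζ' + ζ = 0 := by
    rcases hir (LinearMap.range (Matrix.toLin' (ζ' + ζ + 1))) (by
      rintro _ ⟨u, rfl⟩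
      exact ⟨r u, hlin _ hyc u⟩) with h | h
    · left
      rw [LinearMap.range_eq_bot] at h
      exact Matrix.toLin'.injective (by rw [h, map_zero])
    · right
      apply Matrix.toLin'.injective
      rw [map_zero]
      apply LinearMap.ext
      intro v
      obtain ⟨u, rfl⟩ : v ∈ LinearMap.range (Matrix.toLin' (ζ' + ζ + 1)) := by rw [h]; exact Submodule.mem_top
      have h3 : Matrix.toLin' ((ζ' + ζ) * (ζ' + ζ + 1)) u = 0 := by rw [hprod, map_zero]; rfl
      rw [Matrix.toLin'_mul] at h3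
      exact h3
  have hsub : ∀ x : Matrix (Fin 8) (Fin 8) F, -x = x := fun x => neg_eq_of_add_eq_zero_left (hadd x)
  have hz : ζ' = ζ ∨ ζ' = ζ + 1 := by
    rcases hcase with h | h
    · right
      rw [add_assoc] at h
      rw [eq_neg_of_add_eq_zero_left h, hsub]
    · left
      rw [eq_neg_of_add_eq_zero_left h, hsub]
  have hζK' : ζ ∈ K' := by
    rcases hz with h | h
    · rw [← h]; exact hζ'
    · have : ζ = ζ' + 1 := by rw [h, add_assoc, hadd, add_zero]
      rw [this]
      exact K'.add_mem hζ' K'.one_mem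
  have hζ'K : ζ' ∈ K := by
    rcases hz with h | h
    · rw [h]; exact hζ
    · rw [h]; exact K.add_mem hζ K.one_mem
  apply le_antisymm
  · intro k hk
    rcases hall k hk with rfl | rfl | rfl | rfl
    · exact K'.zero_mem
    · exact K'.one_mem
    · exact hζK'
    · exact K'.add_mem hζK' K'.one_mem
  · intro k hk
    rcases hall' k hk with rfl | rfl | rfl | rfl
    · exact K.zero_mem
    · exact K.one_mem
    · exact hζ'K
    · exact K.add_mem hζ'K K.one_mem

end mat

end Cfsg.Agent.H621.EP.Sev
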