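import Cfsg.Agent.H955.Semi
import Cfsg.Agent.H890.SpParity
import Cfsg.Agent.OddOrderCharacters.ClassSum

/-!
# S3499, `Ω₈⁻(2) < Ω₈⁺(4)`: linear algebra of elements of order `17` in dimension `8` over `F₄` (helper621)

`fix_w_five`: `y, z` commuting of order `17`, `w ^ 4 = 1`, `w z = z w`, `w y w⁻¹ = y ^ 4`: the fixed space of `w` has
dimension `5`.
-/

set_option autoImplicit false
set_option linter.unusedSectionVars false
set_option linter.style.haveILetI false

namespace Cfsg.Agent.H621.EP.Sev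

open Module Cfsg.Agent.H890.SpParity

variable {F V : Type*} [Field F] [Finite F] [AddCommGroup V] [Module F V] [FiniteDimensional F V]

theorem card_sub (hF : Nat.card F = 4) (U : Submodule F V) : Nat.card {v // v ∈ U ∧ v ≠ 0} + 1 = 4 ^ finrank F U := by
  classical
  have hfV : Finite V := Module.finite_of_finite F
  have h1 : Nat.card U = 4 ^ finrank F U := by
    rw [Module.natCard_eq_pow_finrank (K := F), hF]
  have h2 : Nat.card {v // v ∈ U ∧ v ≠ 0} + 1 = Nat.card U := by
    have h3 : Nat.card {v // v ∈ U ∧ v ≠ 0} = (((U : Set V) \ {0}) : Set V).ncard := by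
      rw [← Nat.card_coe_set_eq]
      rfl
    rw [h3, Set.ncard_sdiff_singleton_add_one (show (0 : V) ∈ (U : Set V) from U.zero_mem) (Set.toFinite _),
      ← Nat.card_coe_set_eq]
    rfl
  rw [h2, h1]

/-- dimension of an invariant subspace on which an element of order `17` has no fixed points -/
theorem dim_of_free (hF : Nat.card F = 4) (h8 : finrank F V = 8) {r : V ≃ₗ[F] V} (hr : r ^ 17 = 1) {U : Submodule F V}
    (hU : ∀ v ∈ U, r v ∈ U) (hf : ∀ v ∈ U, r v = v → v = 0) :
    finrank F U = 0 ∨ finrank F U = 4 ∨ finrank F U = 8 := by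
  have hfV : Finite V := Module.finite_of_finite F
  have : Fact (Nat.Prime 17) := ⟨by norm_num⟩
  have h1 := H955.dvd_card_of_free_linear (T := r) hr (fun v => v ∈ U ∧ v ≠ 0)
    (fun v hv => ⟨hU v hv.1, fun e => hv.2 (by rwa [LinearEquiv.map_eq_zero_iff] at e)⟩)
    (fun v hv e => hv.2 (hf v hv.1 e))
  have h2 := card_sub hF U
  have h3 : finrank F U ≤ 8 := h8 ▸ Submodule.finrank_le U
  generalize finrank F U = d at h2 h3
  generalize Nat.card {v // v ∈ U ∧ v ≠ 0} = n at h1 h2
  obtain ⟨k, rfl⟩ := h1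
  interval_cases d <;> omega

theorem dim_four (hF : Nat.card F = 4) (h8 : finrank F V = 8) {r : V ≃ₗ[F] V} (hr : r ^ 17 = 1) {U : Submodule F V}
    (hU : ∀ v ∈ U, r v ∈ U) (hf : ∀ v ∈ U, r v = v → v = 0) (h0 : U ≠ ⊥) : 4 ≤ finrank F U := by
  have h1 := dim_of_free hF h8 hr hU hf
  have h2 : finrank F U ≠ 0 := fun e => h0 (Submodule.finrank_eq_zero.1 e)
  omega

/-- powers -/
theorem fix_of_pow {r : V ≃ₗ[F] V} {n k : ℕ} (hr : r ^ n = 1) (hk : Nat.Coprime k n) {v : V} (h : (r ^ k) v = v) :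
    r v = v := by
  have h1 : ∀ j : ℕ, ((r ^ k) ^ j) v = v := by
    intro j
    induction j with
    | zero => rfl
    | succ j ih => rw [pow_succ, LinearEquiv.mul_apply, h, ih]
  rcases Nat.eq_zero_or_pos n with rfl | hn
  · rw [Nat.coprime_zero_right] at hk
    rw [hk, pow_one] at h
    exact h
  rcases Nat.lt_or_ge 1 n with hn1 | hn1
  · obtain ⟨j, -, hj⟩ := Nat.exists_mul_mod_eq_one_of_coprime hk hn1
    have h2 := h1 j
    rw [← pow_mul, ← Nat.mod_add_div (k * j) n, hj, pow_add, pow_mul, hr, one_pow, mul_one, pow_one] at h2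
    exact h2
  · have : n = 1 := by omega
    subst this
    rw [pow_one] at hr
    rw [hr]
    rfl

theorem range_inf_fix (h2 : (2 : F) = 0) {r : V ≃ₗ[F] V} (hr : r ^ 17 = 1) {v u : V} (hv : v = r u - u)
    (h : r v = v) : v = 0 := by
  have h1 : ∀ k : ℕ, (r ^ k) u = u + k • v := by
    intro k
    induction k with
    | zero => rw [pow_zero, zero_smul, add_zero]; rfl
    | succ k ih =>
      rw [pow_succ', LinearEquiv.mul_apply, ih, map_add, map_nsmul, h]
      have h3 : r u = u + v := by rw [hv]; abel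
      rw [h3, succ_nsmul]
      abel
  have h3 := h1 17
  rw [hr] at h3
  have h4 : (17 : ℕ) • v = 0 := by
    have h5 : u + (17 : ℕ) • v = u := h3.symm
    exact left_eq_add.1 h5.symm
  have h5 : ((17 : ℕ) : F) • v = 0 := by rw [Nat.cast_smul_eq_nsmul]; exact h4
  have h6 : ((17 : ℕ) : F) = 1 := by
    push_cast
    linear_combination 8 * h2
  rwa [h6, one_smul] at h5

/-- two commuting elements of order `17` on a small space -/
theorem exists_eq (hF : Nat.card F = 4) {y z : V ≃ₗ[F] V} (hy : orderOf y = 17) (hz : orderOf z = 17)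
    (hc : y * z = z * y) {W : Submodule F V} (hyW : ∀ v ∈ W, y v ∈ W) (hzW : ∀ v ∈ W, z v ∈ W)
    (hf : ∀ v ∈ W, z v = v → v = 0) (hW : ¬ 289 ∣ 4 ^ finrank F W - 1) :
    ∃ b : ℕ, ∃ v ∈ W, v ≠ 0 ∧ y v = (z ^ b) v := by
  classical
  have hfV : Finite V := Module.finite_of_finite F
  have hFV := Fintype.ofFinite V
  by_contra hcon
  push Not at hcon
  let φ : (Subgroup.zpowers y) × (Subgroup.zpowers z) →* (V ≃ₗ[F] V) :=
    MonoidHom.noncommCoprod (Subgroup.zpowers y).subtype (Subgroup.zpowers z).subtype (by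
      rintro ⟨a, ha⟩ ⟨b, hb⟩
      obtain ⟨i, rfl⟩ := ha
      obtain ⟨j, rfl⟩ := hb
      exact ((show Commute y z from hc).zpow_zpow i j))
  letI : MulAction ((Subgroup.zpowers y) × (Subgroup.zpowers z)) V := MulAction.compHom V φ
  have hsm : ∀ (g : (Subgroup.zpowers y) × (Subgroup.zpowers z)) (v : V), g • v = φ g v := fun _ _ => rfl
  have hfy : Finite (Subgroup.zpowers y) := Nat.finite_of_card_ne_zero (by rw [Nat.card_zpowers, hy]; norm_num)
  have hfz : Finite (Subgroup.zpowers z) := Nat.finite_of_card_ne_zero (by rw [Nat.card_zpowers, hz]; norm_num)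
  have hfoy : IsOfFinOrder y := orderOf_pos_iff.1 (by rw [hy]; norm_num)
  have hfoz : IsOfFinOrder z := orderOf_pos_iff.1 (by rw [hz]; norm_num)
  have hy17 : y ^ 17 = 1 := by rw [← hy]; exact pow_orderOf_eq_one y
  have hz17 : z ^ 17 = 1 := by rw [← hz]; exact pow_orderOf_eq_one z
  have hpow : ∀ (g : V ≃ₗ[F] V) (v : V), g v = v → ∀ k : ℕ, (g ^ k) v = v := by
    intro g v h k
    induction k with
    | zero => rfl
    | succ k ih => rw [pow_succ, LinearEquiv.mul_apply, h, ih]
  have hsub : ∀ (g : V ≃ₗ[F] V), (∀ v ∈ W, g v ∈ W) → ∀ k : ℕ, ∀ v ∈ W, (g ^ k) v ∈ W := by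
    intro g hg k
    induction k with
    | zero => exact fun v hv => hv
    | succ k ih =>
      intro v hv
      rw [pow_succ, LinearEquiv.mul_apply]
      exact ih _ (hg v hv)
  have hcard : Nat.card ((Subgroup.zpowers y) × (Subgroup.zpowers z)) = 289 := by
    rw [Nat.card_prod, Nat.card_zpowers, Nat.card_zpowers, hy, hz]
  have hmain := Cfsg.Agent.OddOrderCharacters.ClassSum.card_dvd_of_free (H := (Subgroup.zpowers y) × (Subgroup.zpowers z))
    (X := V) (Finset.univ.filter fun v => v ∈ W ∧ v ≠ 0) (by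
      rintro ⟨⟨a, ha⟩, ⟨b, hb⟩⟩ v hv
      rw [Finset.mem_filter] at hv ⊢
      obtain ⟨i, rfl⟩ := hfoy.mem_powers_iff_mem_zpowers.2 ha
      obtain ⟨j, rfl⟩ := hfoz.mem_powers_iff_mem_zpowers.2 hb
      refine ⟨Finset.mem_univ _, ?_, ?_⟩
      · show (y ^ i * z ^ j) v ∈ W
        rw [LinearEquiv.mul_apply]
        exact hsub y hyW i _ (hsub z hzW j v hv.2.1)
      · intro e
        exact hv.2.2 ((LinearEquiv.map_eq_zero_iff (y ^ i * z ^ j)).1 e)) (by
      rintro ⟨⟨a, ha⟩, ⟨b, hb⟩⟩ v hv e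
      rw [Finset.mem_filter] at hv
      obtain ⟨i, rfl⟩ := hfoy.mem_powers_iff_mem_zpowers.2 ha
      obtain ⟨j, rfl⟩ := hfoz.mem_powers_iff_mem_zpowers.2 hb
      have e' : (y ^ i * z ^ j) v = v := e
      by_cases hi : 17 ∣ i
      · obtain ⟨i', rfl⟩ := hi
        have h1 : y ^ (17 * i') = 1 := by rw [pow_mul, hy17, one_pow]
        rw [h1, one_mul] at e'
        by_cases hj : 17 ∣ j
        · obtain ⟨j', rfl⟩ := hj
          have h2 : z ^ (17 * j') = 1 := by rw [pow_mul, hz17, one_pow]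
          exact Prod.ext (Subtype.ext h1) (Subtype.ext h2)
        · exact absurd (hf v hv.2.1 (fix_of_pow hz17 ((Nat.Prime.coprime_iff_not_dvd (by norm_num)).2 hj).symm e')) hv.2.2
      · exfalso
        obtain ⟨k, -, hk⟩ := Nat.exists_mul_mod_eq_one_of_coprime
          ((Nat.Prime.coprime_iff_not_dvd (by norm_num)).2 hi).symm (show 1 < 17 by norm_num)
        have h1 := hpow _ _ e' k
        have hcm : Commute (y ^ i) (z ^ j) := (show Commute y z from hc).pow_pow i j
        rw [hcm.mul_pow, ← pow_mul, ← pow_mul, ← Nat.mod_add_div (i * k) 17, hk, pow_add, pow_mul, hy17, one_pow,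
          mul_one, pow_one] at h1
        refine hcon (16 * (j * k)) v hv.2.1 hv.2.2 ?_
        have h2 : y * z ^ (j * k) = z ^ (j * k) * y := ((show Commute y z from hc).pow_right (j * k)).eq
        rw [h2] at h1
        have h3 : (z ^ (16 * (j * k)) * (z ^ (j * k) * y)) v = (z ^ (16 * (j * k))) v := by
          rw [LinearEquiv.mul_apply, h1]
        rw [← mul_assoc, ← pow_add, show 16 * (j * k) + j * k = 17 * (j * k) by ring, pow_mul z 17, hz17, one_pow,
          one_mul] at h3
        exact h3)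
  rw [hcard] at hmain
  have h1 := card_sub hF W
  have h2 : Nat.card {v // v ∈ W ∧ v ≠ 0} = (Finset.univ.filter fun v => v ∈ W ∧ v ≠ 0).card := by
    rw [Nat.card_eq_fintype_card, Fintype.card_subtype]
  apply hW
  rw [← h1, h2, Nat.add_sub_cancel]
  exact hmain

section main

variable {y z w : V ≃ₗ[F] V}

theorem comm_pow (hc : y * z = z * y) (b : ℕ) (v : V) : y ((z ^ b) v) = (z ^ b) (y v) := by
  have h := ((show Commute y z from hc).pow_right b).eq
  exact LinearEquiv.congr_fun h v

theorem w_pow (hwy : w * y = y ^ 4 * w) (m : ℕ) (v : V) : w ((y ^ m) v) = (y ^ (4 * m)) (w v) := by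
  have h : w * y ^ m = y ^ (4 * m) * w := by
    have h1 : w * y * w⁻¹ = y ^ 4 := by rw [hwy, mul_inv_cancel_right]
    have h2 : w * y ^ m * w⁻¹ = y ^ (4 * m) := by rw [← conj_pow, h1, pow_mul]
    rw [← h2, inv_mul_cancel_right]
  exact LinearEquiv.congr_fun h v

/-- `y = 1` on an invariant `4`-space without fixed points of `z` -/
theorem eq_on (hF : Nat.card F = 4) (h8 : finrank F V = 8) (hy : orderOf y = 17) (hz : orderOf z = 17)
    (hc : y * z = z * y) (hw4 : w ^ 4 = 1) (hwz : w * z = z * w) (hwy : w * y = y ^ 4 * w) {W : Submodule F V}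
    (hyW : ∀ v ∈ W, y v ∈ W) (hzW : ∀ v ∈ W, z v ∈ W) (hwW : ∀ v ∈ W, w v ∈ W) (hf : ∀ v ∈ W, z v = v → v = 0)
    (hW : finrank F W = 4) : ∀ v ∈ W, y v = v := by
  have hy17 : y ^ 17 = 1 := by rw [← hy]; exact pow_orderOf_eq_one y
  have hz17 : z ^ 17 = 1 := by rw [← hz]; exact pow_orderOf_eq_one z
  obtain ⟨b, v0, hv0, hv0', e0⟩ := exists_eq hF hy hz hc hyW hzW hf (by rw [hW]; norm_num)
  let U : Submodule F V := W ⊓ LinearMap.ker (y.toLinearMap - (z ^ b).toLinearMap)
  have hmem : ∀ v, v ∈ U ↔ v ∈ W ∧ y v = (z ^ b) v := by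
    intro v
    rw [Submodule.mem_inf, LinearMap.mem_ker, LinearMap.sub_apply, sub_eq_zero]
    rfl
  have hU1 : 4 ≤ finrank F U := by
    refine dim_four hF h8 hz17 (fun v hv => ?_) (fun v hv => hf v ((hmem v).1 hv).1) ?_
    · rw [hmem] at hv ⊢
      refine ⟨hzW v hv.1, ?_⟩
      have h1 := comm_pow hc 1 v
      rw [pow_one] at h1
      rw [h1, hv.2]
      exact LinearEquiv.congr_fun ((Commute.refl z).pow_right b).eq v
    · intro e
      apply hv0'
      have : v0 ∈ U := (hmem v0).2 ⟨hv0, e0⟩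
      rw [e] at this
      exact (Submodule.mem_bot F).1 this
  have hUW : U = W := Submodule.eq_of_le_of_finrank_le inf_le_left (by omega)
  have hyz : ∀ v ∈ W, y v = (z ^ b) v := fun v hv => ((hmem v).1 (by rw [hUW]; exact hv)).2
  intro v hv
  have h1 : v = w (w (w (w v))) := by
    have := LinearEquiv.congr_fun hw4 v
    exact this.symm
  have h2 := hwW _ (hwW _ (hwW v hv))
  rw [h1]
  generalize w (w (w v)) = u at h2
  have h3 := w_pow hwy 1 u
  rw [pow_one, hyz u h2, mul_one] at h3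
  have h4 : w ((z ^ b) u) = (z ^ b) (w u) := by
    exact LinearEquiv.congr_fun ((show Commute w z from hwz).pow_right b).eq u
  rw [h4, ← hyz _ (hwW u h2)] at h3
  have h5 : (y ^ 3) (w u) = w u := by
    apply y.injective
    rw [h3]
    exact (LinearEquiv.congr_fun (pow_succ' y 3) (w u)).symm
  exact fix_of_pow hy17 (by norm_num) h5

/-- `z` has fixed points -/
theorem exists_fix (hF : Nat.card F = 4) (h2 : (2 : F) = 0) (h8 : finrank F V = 8) (hy : orderOf y = 17)
    (hz : orderOf z = 17) (hc : y * z = z * y) (hw4 : w ^ 4 = 1) (hwz : w * z = z * w) (hwy : w * y = y ^ 4 * w)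
    (hf : ∀ v, z v = v → v = 0) : False := by
  have hy17 : y ^ 17 = 1 := by rw [← hy]; exact pow_orderOf_eq_one y
  have hz17 : z ^ 17 = 1 := by rw [← hz]; exact pow_orderOf_eq_one z
  have hy1 : y ≠ 1 := fun e => by rw [e, orderOf_one] at hy; omega
  obtain ⟨b, v0, -, hv0', e0⟩ := exists_eq hF hy hz hc (W := ⊤) (fun _ _ => Submodule.mem_top)
    (fun _ _ => Submodule.mem_top) (fun v _ => hf v) (by rw [finrank_top, h8]; norm_num)
  by_cases hb : 17 ∣ b
  · obtain ⟨b', rfl⟩ := hb
    rw [pow_mul, hz17, one_pow] at e0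
    have e0' : y v0 = v0 := e0
    have hE1 : 4 ≤ finrank F (fix y) := by
      refine dim_four hF h8 hz17 (fun v hv => ?_) (fun v _ => hf v) ?_
      · rw [mem_fix] at hv ⊢
        have h1 := comm_pow hc 1 v
        rw [pow_one] at h1
        rw [h1, hv]
      · intro e
        apply hv0'
        have : v0 ∈ fix y := mem_fix.2 e0'
        rw [e] at this
        exact (Submodule.mem_bot F).1 this
    have hE := dim_of_free hF h8 hz17 (U := fix y) (fun v hv => by
        rw [mem_fix] at hv ⊢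
        have h1 := comm_pow hc 1 v
        rw [pow_one] at h1
        rw [h1, hv]) (fun v _ => hf v)
    have hE8 : finrank F (fix y) ≠ 8 := by
      intro e
      apply hy1
      have h1 : fix y = ⊤ := Submodule.eq_top_of_finrank_eq (by rw [e, h8])
      apply LinearEquiv.ext
      intro v
      have : v ∈ fix y := by rw [h1]; exact Submodule.mem_top
      exact mem_fix.1 this
    have hE4 : finrank F (fix y) = 4 := by omega
    have hr := LinearMap.finrank_range_add_finrank_ker (y.toLinearMap - LinearMap.id)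
    have hr' : finrank F (LinearMap.range (y.toLinearMap - LinearMap.id)) = 4 := by
      have h3 : finrank F (LinearMap.ker (y.toLinearMap - LinearMap.id)) = 4 := hE4
      omega
    have hmem : ∀ v, v ∈ LinearMap.range (y.toLinearMap - LinearMap.id) ↔ ∃ u, v = y u - u := by
      intro v
      constructor
      · rintro ⟨u, rfl⟩
        exact ⟨u, rfl⟩
      · rintro ⟨u, rfl⟩
        exact ⟨u, rfl⟩
    have h4 := eq_on hF h8 hy hz hc hw4 hwz hwy (W := LinearMap.range (y.toLinearMap - LinearMap.id))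
      (fun v hv => by
        rw [hmem] at hv ⊢
        obtain ⟨u, rfl⟩ := hv
        exact ⟨y u, by rw [map_sub]⟩)
      (fun v hv => by
        rw [hmem] at hv ⊢
        obtain ⟨u, rfl⟩ := hv
        refine ⟨z u, ?_⟩
        have h1 := comm_pow hc 1 u
        rw [pow_one] at h1
        rw [map_sub, h1])
      (fun v hv => by
        rw [hmem] at hv ⊢
        obtain ⟨u, rfl⟩ := hv
        refine ⟨(y ^ 3) (w u) + (y ^ 2) (w u) + y (w u) + w u, ?_⟩
        have h1 := w_pow hwy 1 u
        rw [pow_one, mul_one] at h1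
        have h5 : ∀ k, y ((y ^ k) (w u)) = (y ^ (k + 1)) (w u) := fun k =>
          (LinearEquiv.congr_fun (pow_succ' y k) (w u)).symm
        have h6 : y (y (w u)) = (y ^ 2) (w u) := by
          have := h5 1
          rwa [pow_one] at this
        rw [map_sub, h1, map_add, map_add, map_add, h5, h5, h6]
        abel)
      (fun v hv => hf v) hr'
    have h5 : LinearMap.range (y.toLinearMap - LinearMap.id) = ⊥ := by
      rw [Submodule.eq_bot_iff]
      intro v hv
      obtain ⟨u, hu⟩ := (hmem v).1 hv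
      exact range_inf_fix h2 hy17 hu (h4 v hv)
    rw [h5, finrank_bot] at hr'
    omega
  · -- the spaces `G m`
    let G : ℕ → Submodule F V := fun m => LinearMap.ker ((y ^ m).toLinearMap - (z ^ b).toLinearMap)
    have hG : ∀ m v, v ∈ G m ↔ (y ^ m) v = (z ^ b) v := by
      intro m v
      rw [LinearMap.mem_ker, LinearMap.sub_apply, sub_eq_zero]
      rfl
    have hyz : ∀ m k v, (y ^ m) ((z ^ k) v) = (z ^ k) ((y ^ m) v) := by
      intro m k v
      exact LinearEquiv.congr_fun ((show Commute y z from hc).pow_pow m k).eq v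
    have hGz : ∀ m, ∀ v ∈ G m, z v ∈ G m := by
      intro m v hv
      rw [hG] at hv ⊢
      have h1 := hyz m 1 v
      rw [pow_one] at h1
      rw [h1, hv]
      exact LinearEquiv.congr_fun ((Commute.refl z).pow_right b).eq v
    have hGy : ∀ m, ∀ v ∈ G m, y v ∈ G m := by
      intro m v hv
      rw [hG] at hv ⊢
      have h1 := hyz 1 b v
      rw [pow_one] at h1
      rw [← h1, ← hv]
      exact LinearEquiv.congr_fun ((Commute.refl y).pow_left m).eq v
    have hGzb : ∀ m k, ∀ v ∈ G m, (z ^ k) v ∈ G m := by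
      intro m k
      induction k with
      | zero => exact fun v hv => hv
      | succ k ih =>
        intro v hv
        rw [pow_succ, LinearEquiv.mul_apply]
        exact ih _ (hGz m v hv)
    have hGw : ∀ m, ∀ v ∈ G m, w v ∈ G (4 * m) := by
      intro m v hv
      rw [hG] at hv ⊢
      rw [← w_pow hwy, hv]
      exact LinearEquiv.congr_fun ((show Commute w z from hwz).pow_right b).eq v
    have hdis : ∀ m d, Nat.Coprime d 17 → G m ⊓ G (d + m) = ⊥ := by
      intro m d hd
      rw [Submodule.eq_bot_iff]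
      rintro v ⟨h3, h4⟩
      have h3' := (hG m v).1 h3
      have h4' := (hG (d + m) v).1 h4
      have h5 : (y ^ d) ((y ^ m) v) = (y ^ m) v := by
        have h6 := h4'
        rw [pow_add, LinearEquiv.mul_apply] at h6
        rw [h6]
        exact h3'.symm
      have h6 := fix_of_pow hy17 hd h5
      have hym : ∀ k : ℕ, (y ^ k) ((y ^ m) v) = (y ^ m) v := by
        intro k
        induction k with
        | zero => rfl
        | succ k ih => rw [pow_succ, LinearEquiv.mul_apply, h6, ih]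
      have h7 : (z ^ b) ((y ^ m) v) = (y ^ m) v := by
        rw [← hyz, ← h3', hym]
      have h8' := hf _ (fix_of_pow hz17 ((Nat.Prime.coprime_iff_not_dvd (by norm_num)).2 hb).symm h7)
      exact (LinearEquiv.map_eq_zero_iff (y ^ m)).1 h8'
    have hG1 : G 1 ≠ ⊥ := by
      intro e
      apply hv0'
      have : v0 ∈ G 1 := (hG 1 v0).2 (by rw [pow_one]; exact e0)
      rw [e] at this
      exact (Submodule.mem_bot F).1 this
    have hGs : ∀ m, G m ≠ ⊥ → G (4 * m) ≠ ⊥ := by
      intro m hm e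
      apply hm
      rw [Submodule.eq_bot_iff] at e ⊢
      intro v hv
      exact (LinearEquiv.map_eq_zero_iff w).1 (e _ (hGw m v hv))
    have hG4 : G 4 ≠ ⊥ := hGs 1 hG1
    have hG16 : G 16 ≠ ⊥ := hGs 4 hG4
    have hd1 := dim_four hF h8 hz17 (hGz 1) (fun v _ => hf v) hG1
    have hd4 := dim_four hF h8 hz17 (hGz 4) (fun v _ => hf v) hG4
    have h14 : G 1 ⊓ G 4 = ⊥ := hdis 1 3 (by norm_num)
    have h116 : G 1 ⊓ G 16 = ⊥ := hdis 1 15 (by norm_num)
    have h416 : G 4 ⊓ G 16 = ⊥ := hdis 4 12 (by norm_num)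
    have htop : G 1 ⊔ G 4 = ⊤ := by
      have h5 := Submodule.finrank_sup_add_finrank_inf_eq (G 1) (G 4)
      rw [h14, finrank_bot, add_zero] at h5
      have h6 := Submodule.finrank_le (G 1 ⊔ G 4)
      apply Submodule.eq_top_of_finrank_eq
      omega
    apply hG16
    rw [Submodule.eq_bot_iff]
    intro v hv
    have hvt : v ∈ G 1 ⊔ G 4 := by rw [htop]; exact Submodule.mem_top
    obtain ⟨v1, hv1, v4, hv4, e⟩ := Submodule.mem_sup.1 hvt
    have e1 := (hG 1 v1).1 hv1
    rw [pow_one] at e1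
    have hT : y v - (z ^ b) v = y v4 - (z ^ b) v4 := by
      rw [← e, map_add, map_add, e1]
      abel
    have h5 : y v - (z ^ b) v ∈ G 4 ⊓ G 16 := by
      refine ⟨?_, ?_⟩
      · rw [hT]
        exact (G 4).sub_mem (hGy 4 v4 hv4) (hGzb 4 b v4 hv4)
      · exact (G 16).sub_mem (hGy 16 v hv) (hGzb 16 b v hv)
    rw [h416] at h5
    have h6 : v ∈ G 1 ⊓ G 16 := by
      refine ⟨(hG 1 v).2 ?_, hv⟩
      rw [pow_one]
      exact sub_eq_zero.1 ((Submodule.mem_bot F).1 h5)
    rw [h116] at h6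
    exact (Submodule.mem_bot F).1 h6

theorem sq_sub (h2 : (2 : F) = 0) (v : V) : w (w v - v) - (w v - v) = w (w v) - v := by
  have h : ∀ x : V, x + x = 0 := fun x => by rw [← two_smul F, h2, zero_smul]
  have h1 : w (w v - v) - (w v - v) = w (w v) - v - (w v + w v) + (v + v) := by
    rw [map_sub]
    abel
  rw [h1, h, h, sub_zero, add_zero]

/-- a `2`-element has fixed points on every invariant subspace `≠ 0` -/
theorem inf_fix_ne (h2 : (2 : F) = 0) (hw4 : w ^ 4 = 1) {S : Submodule F V} (hS : ∀ v ∈ S, w v ∈ S) (h0 : S ≠ ⊥) :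
    fix w ⊓ S ≠ ⊥ := by
  obtain ⟨v, hv, hv0⟩ := S.ne_bot_iff.1 h0
  intro e
  rw [Submodule.eq_bot_iff] at e
  have key : ∀ u ∈ S, w u = u → u = 0 := fun u hu h => e u ⟨mem_fix.2 h, hu⟩
  have hs : ∀ u ∈ S, w u - u ∈ S := fun u hu => S.sub_mem (hS u hu) hu
  have hw : w (w (w (w v))) = v := LinearEquiv.congr_fun hw4 v
  have h3 := sq_sub (w := w) h2 v
  have h4 := sq_sub (w := w) h2 (w (w v - v) - (w v - v))
  have h5 : w (w (w (w v - v) - (w v - v))) - (w (w v - v) - (w v - v)) = 0 := by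
    rw [h3, map_sub, map_sub, hw]
    have h : ∀ x : V, x + x = 0 := fun x => by rw [← two_smul F, h2, zero_smul]
    have h6 : v - w (w v) - (w (w v) - v) = (v + v) - (w (w v) + w (w v)) := by abel
    rw [h6, h, h, sub_zero]
  rw [h5] at h4
  have ha := hs v hv
  have hb := hs _ ha
  have hc := hs _ hb
  have hc0 : w (w (w v - v) - (w v - v)) - (w (w v - v) - (w v - v)) = 0 := key _ hc (sub_eq_zero.1 h4)
  have hb0 : w (w v - v) - (w v - v) = 0 := key _ hb (sub_eq_zero.1 hc0)
  have ha0 : w v - v = 0 := key _ ha (sub_eq_zero.1 hb0)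
  exact hv0 (key _ hv (sub_eq_zero.1 ha0))

/-- **the fixed space of `w` has dimension `5`** -/
theorem fix_w_five (hF : Nat.card F = 4) (h2 : (2 : F) = 0) (h8 : finrank F V = 8) (hy : orderOf y = 17)
    (hz : orderOf z = 17) (hc : y * z = z * y) (hw4 : w ^ 4 = 1) (hwz : w * z = z * w) (hwy : w * y = y ^ 4 * w) :
    finrank F (fix w) = 5 := by
  have hy17 : y ^ 17 = 1 := by rw [← hy]; exact pow_orderOf_eq_one y
  have hz17 : z ^ 17 = 1 := by rw [← hz]; exact pow_orderOf_eq_one z
  have hy1 : y ≠ 1 := fun e => by rw [e, orderOf_one] at hy; omega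
  have hz1 : z ≠ 1 := fun e => by rw [e, orderOf_one] at hz; omega
  have hyz : ∀ v, y (z v) = z (y v) := fun v => LinearEquiv.congr_fun hc v
  have hwz' : ∀ v, w (z v) = z (w v) := fun v => LinearEquiv.congr_fun hwz v
  have hwy' : ∀ v, w (y v) = (y ^ 4) (w v) := fun v => LinearEquiv.congr_fun hwy v
  have hmem : ∀ (g : V ≃ₗ[F] V) v, v ∈ LinearMap.range (g.toLinearMap - LinearMap.id) ↔ ∃ u, v = g u - u := by
    intro g v
    constructor
    · rintro ⟨u, rfl⟩
      exact ⟨u, rfl⟩
    · rintro ⟨u, rfl⟩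
      exact ⟨u, rfl⟩
  have hdim : ∀ g : V ≃ₗ[F] V, finrank F (LinearMap.range (g.toLinearMap - LinearMap.id)) + finrank F (fix g) = 8 := by
    intro g
    have := LinearMap.finrank_range_add_finrank_ker (g.toLinearMap - LinearMap.id)
    rw [h8] at this
    exact this
  have hne8 : ∀ g : V ≃ₗ[F] V, g ≠ 1 → finrank F (fix g) ≠ 8 := by
    intro g hg e
    apply hg
    have h1 : fix g = ⊤ := Submodule.eq_top_of_finrank_eq (by rw [e, h8])
    apply LinearEquiv.ext
    intro v
    have : v ∈ fix g := by rw [h1]; exact Submodule.mem_top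
    exact mem_fix.1 this
  have hrf : ∀ g : V ≃ₗ[F] V, g ^ 17 = 1 → finrank F (LinearMap.range (g.toLinearMap - LinearMap.id)) = 0 ∨
      finrank F (LinearMap.range (g.toLinearMap - LinearMap.id)) = 4 ∨
      finrank F (LinearMap.range (g.toLinearMap - LinearMap.id)) = 8 := by
    intro g hg
    refine dim_of_free hF h8 hg (fun v hv => ?_) (fun v hv h => ?_)
    · rw [hmem] at hv ⊢
      obtain ⟨u, rfl⟩ := hv
      exact ⟨g u, by rw [map_sub]⟩
    · obtain ⟨u, hu⟩ := (hmem g v).1 hv
      exact range_inf_fix h2 hg hu h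
  have hfz : fix z ≠ ⊥ := by
    intro e
    apply exists_fix hF h2 h8 hy hz hc hw4 hwz hwy
    intro v hv
    have : v ∈ fix z := mem_fix.2 hv
    rw [e] at this
    exact (Submodule.mem_bot F).1 this
  have hfz0 : finrank F (fix z) ≠ 0 := fun e => hfz (Submodule.finrank_eq_zero.1 e)
  have hz4 : finrank F (fix z) = 4 := by
    have h3 := hdim z
    have h4 := hrf z hz17
    have h5 := hne8 z hz1
    omega
  set W := LinearMap.range (z.toLinearMap - LinearMap.id) with hWdef
  have hW4 : finrank F W = 4 := by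
    have h3 : finrank F W + finrank F (fix z) = 8 := hdim z
    omega
  have hWf : ∀ v ∈ W, z v = v → v = 0 := by
    intro v hv h
    obtain ⟨u, hu⟩ := (hmem z v).1 hv
    exact range_inf_fix h2 hz17 hu h
  have hyW : ∀ v ∈ W, y v ∈ W := by
    intro v hv
    obtain ⟨u, rfl⟩ := (hmem z v).1 hv
    exact (hmem z _).2 ⟨y u, by rw [map_sub, hyz]⟩
  have hzW : ∀ v ∈ W, z v ∈ W := by
    intro v hv
    obtain ⟨u, rfl⟩ := (hmem z v).1 hv
    exact (hmem z _).2 ⟨z u, by rw [map_sub]⟩
  have hwW : ∀ v ∈ W, w v ∈ W := by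
    intro v hv
    obtain ⟨u, rfl⟩ := (hmem z v).1 hv
    exact (hmem z _).2 ⟨w u, by rw [map_sub, hwz']⟩
  have hyW1 := eq_on hF h8 hy hz hc hw4 hwz hwy hyW hzW hwW hWf hW4
  -- `w = 1` on `W`
  have hW0 : W ≠ ⊥ := fun e => by rw [e, finrank_bot] at hW4; omega
  have hwW1 : W ≤ fix w := by
    have h3 : 4 ≤ finrank F (fix w ⊓ W : Submodule F V) := by
      refine dim_four hF h8 hz17 (fun v hv => ⟨?_, hzW v hv.2⟩) (fun v hv => hWf v hv.2) (inf_fix_ne h2 hw4 hwW hW0)
      have h4 := mem_fix.1 hv.1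
      show z v ∈ fix w
      rw [mem_fix, hwz', h4]
    have h5 : fix w ⊓ W = W := Submodule.eq_of_le_of_finrank_le inf_le_right (by omega)
    exact inf_eq_right.1 h5
  have hWz : W ⊓ fix z = ⊥ := by
    rw [Submodule.eq_bot_iff]
    rintro v ⟨hv, hv'⟩
    exact hWf v hv (mem_fix.1 hv')
  have hWtop : W ⊔ fix z = ⊤ := by
    have h5 := Submodule.finrank_sup_add_finrank_inf_eq W (fix z)
    rw [hWz, finrank_bot, add_zero] at h5
    have h6 := Submodule.finrank_le (W ⊔ fix z)
    apply Submodule.eq_top_of_finrank_eq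
    omega
  -- `y` has no fixed points on `fix z`
  have hWy : W = fix y := by
    have h3 : W ≤ fix y := fun v hv => mem_fix.2 (hyW1 v hv)
    have h4 := Submodule.finrank_mono h3
    have h5 := hdim y
    have h6 := hrf y hy17
    have h7 := hne8 y hy1
    exact Submodule.eq_of_le_of_finrank_le h3 (by omega)
  have hyf : ∀ v ∈ fix z, y v = v → v = 0 := by
    intro v hv h
    have : v ∈ W ⊓ fix z := ⟨by rw [hWy]; exact mem_fix.2 h, hv⟩
    rw [hWz] at this
    exact (Submodule.mem_bot F).1 this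
  have hyV : ∀ v ∈ fix z, y v ∈ fix z := by
    intro v hv
    rw [mem_fix] at hv ⊢
    rw [← hyz, hv]
  have hwV : ∀ v ∈ fix z, w v ∈ fix z := by
    intro v hv
    rw [mem_fix] at hv ⊢
    rw [← hwz', hv]
  have hU1 := inf_fix_ne h2 hw4 hwV hfz
  -- the fixed points of `w ^ 2`
  have hw2 : ∀ v, (w ^ 2) v = w (w v) := fun v => rfl
  have hU12 : fix w ⊓ fix z ≤ fix (w ^ 2) ⊓ fix z := by
    rintro v ⟨h3, h4⟩
    have h5 := mem_fix.1 h3
    refine ⟨mem_fix.2 ?_, h4⟩
    rw [hw2, h5, h5]
  have hU2 : finrank F (fix (w ^ 2) ⊓ fix z : Submodule F V) ≤ 2 := by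
    have h3 : (fix (w ^ 2) ⊓ fix z) ⊓ (fix (w ^ 2) ⊓ fix z).map y.toLinearMap = ⊥ := by
      rw [Submodule.eq_bot_iff]
      rintro v ⟨h4, u, h5, rfl⟩
      have h6 : (w ^ 2) (y u) = y u := mem_fix.1 h4.1
      have h7 : (w ^ 2) u = u := mem_fix.1 h5.1
      have h8' : (w ^ 2) (y u) = (y ^ 16) u := by
        rw [hw2, hwy', w_pow hwy, ← hw2, h7]
      rw [h8'] at h6
      have h9 : (y ^ 15) u = u := by
        apply y.injective
        rw [← h6]
        exact (LinearEquiv.congr_fun (pow_succ' y 15) u).symm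
      have h10 := hyf u h5.2 (fix_of_pow hy17 (by norm_num) h9)
      show y u = 0
      rw [h10, map_zero]
    have h4 := Submodule.finrank_sup_add_finrank_inf_eq (fix (w ^ 2) ⊓ fix z)
      ((fix (w ^ 2) ⊓ fix z).map y.toLinearMap)
    rw [h3, finrank_bot, add_zero] at h4
    have h5 : finrank F ((fix (w ^ 2) ⊓ fix z).map y.toLinearMap) = finrank F (fix (w ^ 2) ⊓ fix z : Submodule F V) :=
      LinearEquiv.finrank_map_eq y _
    have h6 : (fix (w ^ 2) ⊓ fix z) ⊔ (fix (w ^ 2) ⊓ fix z).map y.toLinearMap ≤ fix z := by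
      refine sup_le inf_le_right ?_
      rintro _ ⟨u, hu, rfl⟩
      exact hyV u hu.2
    have h7 := Submodule.finrank_mono h6
    omega
  have hU1f : finrank F (fix w ⊓ fix z : Submodule F V) = 1 := by
    have h3 : finrank F (fix w ⊓ fix z : Submodule F V) ≠ 0 := fun e => hU1 (Submodule.finrank_eq_zero.1 e)
    have h4 := Submodule.finrank_mono hU12
    by_contra hne
    have h5 : fix w ⊓ fix z = fix (w ^ 2) ⊓ fix z := Submodule.eq_of_le_of_finrank_le hU12 (by omega)
    have h6 : ∀ v ∈ fix z, w (w v) = v → w v = v := by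
      intro v hv h
      have : v ∈ fix w ⊓ fix z := by
        rw [h5]
        exact ⟨mem_fix.2 h, hv⟩
      exact mem_fix.1 this.1
    have h7 : fix z ≤ fix w ⊓ fix z := by
      intro v hv
      refine ⟨mem_fix.2 ?_, hv⟩
      have hw : w (w (w (w v))) = v := LinearEquiv.congr_fun hw4 v
      have hadd : ∀ x : V, x + x = 0 := fun x => by rw [← two_smul F, h2, zero_smul]
      -- `u = w² v + v` is fixed by `w²`
      have ha : w (w (w (w v) - v)) = w (w v) - v := by
        rw [map_sub, map_sub, hw]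
        have : v - w (w v) - (w (w v) - v) = 0 := by
          have h9 : v - w (w v) - (w (w v) - v) = (v + v) - (w (w v) + w (w v)) := by abel
          rw [h9, hadd, hadd, sub_zero]
        exact sub_eq_zero.1 this
      have hm : w (w v) - v ∈ fix z := (fix z).sub_mem (hwV _ (hwV v hv)) hv
      have hb := h6 _ hm ha
      -- `w v - v` is fixed by `w ^ 2`
      have hc' : w (w (w v - v)) = w v - v := by
        have h9 : w (w (w v - v)) - (w v - v) = w (w (w v) - v) - (w (w v) - v) := by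
          rw [map_sub, map_sub, map_sub]
          abel
        rw [hb, sub_self] at h9
        exact sub_eq_zero.1 h9
      have hd := h6 _ ((fix z).sub_mem (hwV v hv) hv) hc'
      have he : w (w v) = v := by
        have h9 := sq_sub (w := w) h2 v
        rw [hd, sub_self] at h9
        exact (sub_eq_zero.1 h9.symm)
      exact h6 v hv he
    have h8' := Submodule.finrank_mono h7
    omega
  have h9 : fix w = W ⊔ (fix w ⊓ fix z) := by
    have h10 : (W ⊔ fix z) ⊓ fix w = W ⊔ (fix z ⊓ fix w) := sup_inf_assoc_of_le _ hwW1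
    rw [hWtop, top_inf_eq] at h10
    rw [inf_comm (fix w)]
    exact h10
  have h10 := Submodule.finrank_sup_add_finrank_inf_eq W (fix w ⊓ fix z)
  have h11 : W ⊓ (fix w ⊓ fix z) = ⊥ := by
    rw [eq_bot_iff, ← hWz]
    exact inf_le_inf_left _ inf_le_right
  rw [h11, finrank_bot, add_zero, ← h9, hW4, hU1f] at h10
  exact h10

end main

end Cfsg.Agent.H621.EP.Sev
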