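import Cfsg.Agent.H621.EP.SevGeo
import Cfsg.Agent.H419.EP.Soc
import Cfsg.Agent.H917.OmMain
import Cfsg.Agent.S5826
import Cfsg.Agent.S0813

/-!
# S3499, `Ω₈⁻(2) < Ω₈⁺(4)`: the unique maximal overgroup of an element of order `17` in `Ω₈⁻(2)` (helper621)
-/

set_option autoImplicit false
set_option linter.unusedSectionVars false

namespace Cfsg.Agent.H621.EP.Sev

open Module Cfsg Cfsg.Geo Cfsg.Agent.H890.SpParity Cfsg.Agent.H419.EP
open Cfsg.Agent.LieClassical.OrthFinite (glEquiv glEquiv_apply)
open scoped MatrixGroups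

universe u

section

variable {F : Type u} [Field F] [Fintype F]

theorem two_eq_zero (hF : Fintype.card F = 2) : (2 : F) = 0 := by
  have h1 : ((Fintype.card F : ℕ) : F) = 0 := Nat.cast_card_eq_zero F
  rw [hF] at h1
  exact_mod_cast h1

theorem scal_one (hF : Fintype.card F = 2) {g : GL (Fin 8) F} (hg : g ∈ scalars (Fin 8) F) : g = 1 := by
  classical
  obtain ⟨c, rfl⟩ := hg
  have h1 : Fintype.card Fˣ = 1 := by rw [Fintype.card_units, hF]
  have h2 : c = 1 := Fintype.card_le_one_iff.1 h1.le c 1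
  rw [h2, map_one]

/-- an invariant subspace of a subspace stabiliser -/
theorem stab_inv {y : GL (Fin 8) F} {W : Submodule F (Fin 8 → F)} (hy : y ∈ subspaceStabilizer W) :
    ∀ v ∈ W, glEquiv (Fin 8) F y v ∈ W := by
  intro v hv
  rw [glEquiv_apply]
  exact (hy v).1 hv

theorem card_aut_psl3 (hF : Fintype.card F = 2) :
    Nat.card (MulAut (Matrix.ProjectiveSpecialLinearGroup (Fin 3) F)) ∣ 336 := by
  have : Fact (Nat.Prime 2) := ⟨Nat.prime_two⟩
  have h1 := Cfsg.Agent.S0813.result (F := F) 2 1 le_rfl (by rw [hF, pow_one]) 3 (by norm_num) (fun h => by omega)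
  rw [if_neg (by norm_num)] at h1
  rw [h1]
  have h2 : Nat.card (Matrix.ProjGenLinGroup (Fin 3) F) ∣ Nat.card (GL (Fin 3) F) :=
    Subgroup.card_quotient_dvd_card _
  have h3 : Nat.card (GL (Fin 3) F) = 168 := by
    rw [Matrix.card_GL_field, hF, Fin.prod_univ_three]
    norm_num
  rw [h3] at h2
  have h4 := Nat.mul_dvd_mul_left 2 h2
  rw [mul_one]
  exact h4

variable (hk : ∀ (T : Type u) [Group T] [Finite T] [IsSimpleGroup T], IsKnownSimple' T)

include hk in
/-- a maximal subgroup of `Ω₈⁻(2)` with an element of order `17` is the normaliser of a field of order `4` -/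
theorem hat_eq (hF : Fintype.card F = 2) {Qf : (Fin 8 → F) → F} (nd : IsNondegenerateQuadraticForm Qf)
    (hminus : ¬ IsPlusTypeOn Qf ⊤) {N : Type*} [Group N] [Finite N] (m : Model N (omegaGL Qf)) {H : Subgroup N}
    (hH : IsCoatom H) {y : GL (Fin 8) F} (hyH : y ∈ m.hat H) (hy : y ^ 17 = 1) (hy1 : y ≠ 1) :
    ∃ K : Subalgebra F (Matrix (Fin 8) (Fin 8) F), IsFieldSubalgebra 2 K ∧
      m.hat H = subalgebraNormalizer K ⊓ omegaGL Qf := by
  have h2 := two_eq_zero hF
  have hF' : Nat.card F = 2 := by rw [Nat.card_eq_fintype_card, hF]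
  have h8 : finrank F (Fin 8 → F) = 8 := by rw [Module.finrank_fintype_fun_eq_card, Fintype.card_fin]
  have hr : (glEquiv (Fin 8) F y) ^ 17 = 1 := by rw [← map_pow, hy, map_one]
  have hr1 : glEquiv (Fin 8) F y ≠ 1 := fun e => hy1 ((glEquiv (Fin 8) F).injective (by rw [map_one]; exact e))
  have hdim : ∀ W : Submodule F (Fin 8 → F), m.hat H = subspaceStabilizer W ⊓ omegaGL Qf →
      finrank F W = 0 ∨ finrank F W = 8 := by
    intro W hW
    have h3 : y ∈ subspaceStabilizer W := by
      have h4 := hyH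
      rw [hW] at h4
      exact h4.1
    rcases irr2 hF' h2 h8 hr hr1 (stab_inv h3) with h | h
    · left; rw [h, finrank_bot]
    · right; rw [h, finrank_top, h8]
  have hne : ∃ v, Qf v ≠ 0 := by
    by_contra hcon
    push Not at hcon
    obtain ⟨v, hv⟩ := exists_ne (0 : Fin 8 → F)
    obtain ⟨x, hx⟩ := (nd.nondegenerate v hv).2
    apply hx
    rw [QuadraticMap.polar, hcon, hcon, hcon, sub_zero, sub_zero]
  rcases Cfsg.Agent.S5826.result Qf nd hminus (m.hat H) (m.isMaximalIn hH) with ⟨W, hW0, hWt, hW⟩ | ⟨ho, -⟩ |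
    ⟨W, hW2, -, -, hW⟩ | ⟨h4, -⟩ | ⟨W, hW4, -, hW⟩ | ⟨-, v, hv, hW⟩ | ⟨K, hK, hW⟩ | ⟨F₀, r, P, ζ, hr', hro, hc, -⟩ | hres
  · exfalso
    rcases hdim W hW with h | h
    · exact hW0 (Submodule.finrank_eq_zero.1 h)
    · obtain ⟨v, hv⟩ := hne
      have : W = ⊤ := Submodule.eq_top_of_finrank_eq (by rw [h, h8])
      exact hv (hWt v (by rw [this]; exact Submodule.mem_top))
  · exfalso
    rw [hF] at ho
    exact absurd ho (by decide)
  · exfalso
    have := hdim W hW
    omega
  · omega
  · exfalso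
    have := hdim W hW
    omega
  · exfalso
    have h3 := hdim _ hW
    have hv0 : v ≠ 0 := by
      rintro rfl
      apply hv
      have := nd.smul 0 0
      rw [zero_smul] at this
      rw [this]
      ring
    rw [finrank_span_singleton hv0] at h3
    omega
  · exact ⟨K, hK, hW⟩
  · exfalso
    rw [hF] at hc
    have h3 : 3 ≤ r := by
      have := hr'.two_le
      rcases Nat.lt_or_ge r 3 with h | h
      · have : r = 2 := by omega
        subst this
        exact absurd hro (by decide)
      · exact h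
    have h4 : 2 ≤ Nat.card F₀ := by
      have : Nontrivial F₀ := inferInstance
      exact Finite.one_lt_card
    have h5 : 2 ^ 3 ≤ Nat.card F₀ ^ r :=
      (Nat.pow_le_pow_right (by norm_num) h3).trans (Nat.pow_le_pow_left h4 r)
    omega
  · exfalso
    obtain ⟨P, hP, hcon⟩ := H917.Om.row hk nd hminus (m.isMaximalIn hH) hres
    have hsoc := hasSoc_of_core m hP
    rcases hcon with ⟨⟨e⟩, -⟩ | ⟨-, h3⟩
    · obtain ⟨f, hf⟩ := (hsoc.congr e).exists_hom
      have h4 := Subgroup.card_dvd_of_injective f hf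
      have h5 := h4.trans (card_aut_psl3 hF)
      obtain ⟨hyS, hyH'⟩ := m.mem_hat.1 hyH
      have h6 : orderOf (⟨m.π ⟨y, hyS⟩, hyH'⟩ : H) = 17 := by
        have : Fact (Nat.Prime 17) := ⟨by norm_num⟩
        refine orderOf_eq_prime ?_ ?_
        · apply Subtype.ext
          show (m.π ⟨y, hyS⟩) ^ 17 = 1
          rw [← map_pow]
          have : (⟨y, hyS⟩ : omegaGL Qf) ^ 17 = 1 := Subtype.ext hy
          rw [this, map_one]
        · intro e1
          have e2 : m.π ⟨y, hyS⟩ = 1 := congrArg Subtype.val e1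
          exact hy1 (scal_one hF ((m.ker _).1 e2))
      have h7 : 17 ∣ Nat.card H := by rw [← h6]; exact orderOf_dvd_natCard _
      have h8 := h7.trans h5
      norm_num at h8
    · rw [hF] at h3
      norm_num at h3

include hk in
/-- **the maximal overgroup of an element of order `17` is unique** -/
theorem max_unique (hF : Fintype.card F = 2) {Qf : (Fin 8 → F) → F} (nd : IsNondegenerateQuadraticForm Qf)
    (hminus : ¬ IsPlusTypeOn Qf ⊤) {N : Type*} [Group N] [Finite N] (m : Model N (omegaGL Qf)) {H H' : Subgroup N}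
    (hH : IsCoatom H) (hH' : IsCoatom H') {y : N} (hy : orderOf y = 17) (hyH : y ∈ H) (hyH' : y ∈ H') : H = H' := by
  obtain ⟨s, rfl⟩ := m.surj y
  have h17 : ((s : GL (Fin 8) F)) ^ 17 = 1 := by
    have h1 : m.π (s ^ 17) = 1 := by rw [map_pow, ← hy]; exact pow_orderOf_eq_one _
    exact scal_one hF ((m.ker _).1 h1)
  have hs1 : (s : GL (Fin 8) F) ≠ 1 := by
    intro e
    have h1 : s = 1 := Subtype.ext e
    rw [h1, map_one, orderOf_one] at hy
    omega
  obtain ⟨K, hK, e⟩ := hat_eq hk hF nd hminus m hH ((m.mem_hat_iff s).2 hyH) h17 hs1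
  obtain ⟨K', hK', e'⟩ := hat_eq hk hF nd hminus m hH' ((m.mem_hat_iff s).2 hyH') h17 hs1
  have h1 : (s : GL (Fin 8) F) ∈ subalgebraNormalizer K := by
    have := (m.mem_hat_iff s).2 hyH
    rw [e] at this
    exact this.1
  have h2 : (s : GL (Fin 8) F) ∈ subalgebraNormalizer K' := by
    have := (m.mem_hat_iff s).2 hyH'
    rw [e'] at this
    exact this.1
  have h3 := fs_unique (by rw [Nat.card_eq_fintype_card, hF]) (two_eq_zero hF) h17 hs1 hK hK' h1 h2
  apply m.hat_injective
  rw [e, e', h3]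

omit hk in
/-- the order of the centraliser of an element of order `17` -/
theorem card_cent (hF : Fintype.card F = 2) {Qf : (Fin 8 → F) → F} {N : Type*} [Group N] [Finite N]
    (m : Model N (omegaGL Qf)) {y : N} (hy : orderOf y = 17) :
    Nat.card (Subgroup.centralizer ({y} : Set N)) ∣ 255 := by
  classical
  have h2 := two_eq_zero hF
  have hF' : Nat.card F = 2 := by rw [Nat.card_eq_fintype_card, hF]
  have h8 : finrank F (Fin 8 → F) = 8 := by rw [Module.finrank_fintype_fun_eq_card, Fintype.card_fin]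
  have hinj : Function.Injective m.π := by
    rw [injective_iff_map_eq_one]
    intro s hs
    exact Subtype.ext (scal_one hF ((m.ker _).1 hs))
  let E : omegaGL Qf ≃* N := MulEquiv.ofBijective m.π ⟨hinj, m.surj⟩
  let ψ : N →* ((Fin 8 → F) ≃ₗ[F] (Fin 8 → F)) :=
    ((glEquiv (Fin 8) F).toMonoidHom.comp (omegaGL Qf).subtype).comp E.symm.toMonoidHom
  have hψ : Function.Injective ψ :=
    ((glEquiv (Fin 8) F).injective.comp Subtype.val_injective).comp E.symm.injective
  have hr : (ψ y) ^ 17 = 1 := by rw [← map_pow, ← hy, pow_orderOf_eq_one, map_one]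
  have hr1 : ψ y ≠ 1 := fun e => by
    have : y = 1 := hψ (by rw [e, map_one])
    rw [this, orderOf_one] at hy
    omega
  letI : MulAction (Subgroup.centralizer ({y} : Set N)) (Fin 8 → F) :=
    MulAction.compHom _ (ψ.comp (Subgroup.centralizer ({y} : Set N)).subtype)
  have hsm : ∀ (c : Subgroup.centralizer ({y} : Set N)) (v : Fin 8 → F), c • v = ψ (c : N) v := fun _ _ => rfl
  have h1 := Cfsg.Agent.OddOrderCharacters.ClassSum.card_dvd_of_free (H := Subgroup.centralizer ({y} : Set N))
    (X := Fin 8 → F) (Finset.univ.erase 0) (by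
      intro c v hv
      rw [Finset.mem_erase] at hv ⊢
      refine ⟨?_, Finset.mem_univ _⟩
      rw [hsm]
      intro e
      exact hv.1 ((LinearEquiv.map_eq_zero_iff _).1 e)) (by
      intro c v hv e
      rw [Finset.mem_erase] at hv
      rw [hsm] at e
      have hc : (c : N) * y = y * c := by
        have h3 := Subgroup.mem_centralizer_iff.1 c.2 y rfl
        exact h3.symm
      have h3 : ∀ u ∈ fix (ψ (c : N)), ψ y u ∈ fix (ψ (c : N)) := by
        intro u hu
        rw [mem_fix] at hu ⊢
        have h4 : ψ (c : N) (ψ y u) = ψ y (ψ (c : N) u) := by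
          rw [← LinearEquiv.mul_apply, ← map_mul, hc, map_mul]
          rfl
        rw [h4, hu]
      rcases irr2 hF' h2 h8 hr hr1 h3 with h | h
      · exfalso
        have h4 : v ∈ fix (ψ (c : N)) := mem_fix.2 e
        rw [h] at h4
        exact hv.1 ((Submodule.mem_bot F).1 h4)
      · apply Subtype.ext
        apply hψ
        rw [OneMemClass.coe_one, map_one]
        apply LinearEquiv.ext
        intro u
        have h4 : u ∈ fix (ψ (c : N)) := by rw [h]; exact Submodule.mem_top
        exact mem_fix.1 h4)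
  rw [Finset.card_erase_of_mem (Finset.mem_univ _), Finset.card_univ, Fintype.card_fun, Fintype.card_fin, hF] at h1
  exact h1

end

end Cfsg.Agent.H621.EP.Sev
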