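import Cfsg.Agent.H621.EP.OrdO
import Cfsg.Agent.H991.EP.Crude
import Cfsg.Agent.H59.EP.UBGen
import Cfsg.Agent.H173.EP.LineBound
import Cfsg.Agent.S0294
import Cfsg.Agent.S0813
import Cfsg.Agent.S2119
import Cfsg.Agent.ClassicalGeometry.PSL2Basic
import Cfsg.Agent.H933.O10.Main
import Cfsg.Agent.S2062
import Cfsg.Agent.H713.Spor.Tool
import Cfsg.Agent.SporadicA.MathieuRecog

/-!
# S3499-IV, row S5851: `Ω₁₀⁻(q)`, residual class (helper621)

`row_ten_minus` from the natural row over `F₂` (`A₁₂`) and the own characteristic row `PSp₄(q)`. Index bounds: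
`psl11_index`, `index_m22`, `index_a11`.
-/

set_option autoImplicit false

namespace Cfsg.Agent.H621.EP

open Subgroup Cfsg Cfsg.Geo Cfsg.Agent.H284 Cfsg.Agent.H419.EP Cfsg.Agent.H991.EP
open scoped MatrixGroups

/-- the order of `PΩ₁₀⁻(q)`, `q ≥ 7` -/
theorem card_minus_ge {F : Type*} [Field F] [Fintype F] (hq : 7 ≤ Fintype.card F) {a b : F}
    (hab : ∀ z₁ z₂ : F, z₁ ^ 2 + a * z₁ * z₂ + b * z₂ ^ 2 = 0 → z₁ = 0 ∧ z₂ = 0) :
    26 * 10 ^ 36 ≤ Nat.card (POmega F (quadFormMinus 4 F a b)) := by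
  have h := Cfsg.Agent.S0294.result (F := F) rfl 5 (by norm_num) a b hab
  generalize Nat.card (POmega F (quadFormMinus (5 - 1) F a b)) = N at h
  revert h
  generalize hF : Fintype.card F = q at hq
  intro h
  have hg : Nat.gcd 4 (q ^ 5 + 1) ≤ 4 := Nat.gcd_le_left _ (by norm_num)
  have h1 : 7 ^ (5 * (5 - 1)) * (7 ^ 5 + 1) * ((7 ^ 2 - 1) * (7 ^ 4 - 1) * (7 ^ 6 - 1) * (7 ^ 8 - 1)) ≤
      q ^ (5 * (5 - 1)) * (q ^ 5 + 1) * ∏ i ∈ Finset.range (5 - 1), (q ^ (2 * (i + 1)) - 1) := by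
    have h2 : ∀ k, 7 ^ k ≤ q ^ k := fun k => Nat.pow_le_pow_left hq k
    refine Nat.mul_le_mul (Nat.mul_le_mul (h2 _) (Nat.add_le_add_right (h2 _) 1)) ?_
    show _ ≤ ∏ i ∈ Finset.range 4, (q ^ (2 * (i + 1)) - 1)
    rw [Finset.prod_range_succ, Finset.prod_range_succ, Finset.prod_range_succ, Finset.prod_range_one]
    exact Nat.mul_le_mul (Nat.mul_le_mul (Nat.mul_le_mul (Nat.sub_le_sub_right (h2 2) 1)
      (Nat.sub_le_sub_right (h2 4) 1)) (Nat.sub_le_sub_right (h2 6) 1)) (Nat.sub_le_sub_right (h2 8) 1)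
  have h3 : Nat.gcd 4 (q ^ 5 + 1) * N ≤ 4 * N := Nat.mul_le_mul_right _ hg
  rw [h] at h3
  have h4 := h1.trans h3
  norm_num at h4
  omega

section

variable {Q : Type} [Group Q] {A : Subgroup Q} {Γ : Subgroup (MulAut Q)}

/-- `|A|` divides `|Aut L|` -/
theorem card_dvd_aut {L : Type*} [Group L] (h : HasSoc A L) : Nat.card A ∣ Nat.card (MulAut L) := by
  obtain ⟨f, hf⟩ := h.exists_hom
  exact Subgroup.card_dvd_of_injective f hf

/-- contradiction from the order -/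
theorem false_of_card {n k B : ℕ} (hA : Nat.card A ≤ n) (hi : A.index ≤ B) (hQ : k ≤ Nat.card Q) (h : n * B < k) :
    False := by
  have h1 := A.card_mul_index
  have h2 : Nat.card A * A.index ≤ n * B := Nat.mul_le_mul hA hi
  omega

/-- `L₂(11)` -/
theorem card_dvd_psl11 (h : HasSoc A (Matrix.ProjectiveSpecialLinearGroup (Fin 2) (ZMod 11))) : Nat.card A ∣ 1320 := by
  have : Fact (Nat.Prime 11) := ⟨by norm_num⟩
  have h1 := Cfsg.Agent.S0813.result (F := ZMod 11) 11 1 le_rfl (by rw [ZMod.card, pow_one]) 2 le_rfl (fun _ => by norm_num)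
  have h2 := card_dvd_aut h
  rw [h1, if_pos rfl, Cfsg.Agent.ClassicalGeometry.PSL2Basic.card_PGL2, ZMod.card] at h2
  exact h2

theorem psl11_index [Finite Q] (h : EPT A Γ) (hS : HasSoc A (Matrix.ProjectiveSpecialLinearGroup (Fin 2) (ZMod 11))) :
    A.index ≤ 16 * 10 ^ 24 := by
  have h1 := index_le_sb h (N := 1320) (k := 6) (by norm_num) (card_dvd_psl11 hS) (by decide +kernel)
  have h2 : sb 1320 6 ^ 2 ≤ 16 * 10 ^ 24 := by decide +kernel
  exact h1.trans h2

/-- no abelian normal subgroups -/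
theorem hab_of {L : Type*} [Group L] [Finite L] (hL : IsSimpleGroup L) (hn : ¬ (Nat.card L).Prime) (hS : HasSoc A L) :
    ∀ K : Subgroup Q, K ≤ A → (∀ a ∈ A, ∀ k ∈ K, a * k * a⁻¹ ∈ K) → (∀ a ∈ K, ∀ b ∈ K, a * b = b * a) → K = ⊥ := by
  intro K hK hKn hKab
  refine hS.no_abelian hL (fun hc => hn ?_) hK hKn hKab
  let _ : CommGroup L := { (inferInstance : Group L) with mul_comm := hc }
  exact IsSimpleGroup.prime_card

theorem dvd_m22 {L : Type*} [Group L] (hL : Spor.IsoM22 L) (hS : HasSoc A L) : Nat.card A ∣ 887040 := by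
  have hd := card_dvd_aut hS
  obtain ⟨f⟩ := hL
  rw [Nat.card_congr (MulAut.congr f).toEquiv] at hd
  have hd2 := hd.trans (H713.card_mulAut_dvd (S := Spor.M22) (o := 2) (by rw [Cfsg.Agent.S2062.result]))
  rw [Cfsg.Agent.SporadicA.MathieuRecog.card_M22] at hd2
  exact hd2

theorem dvd_a11 (hS : HasSoc A (alternatingGroup (Fin 11))) : Nat.card A ∣ 39916800 := by
  have hd := card_dvd_aut hS
  rw [← Nat.card_congr (Equiv.ofBijective _ (S2119.result 11 (by norm_num) (by norm_num))), Nat.card_perm,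
    Nat.card_fin] at hd
  exact hd

/-- **UB1 + UB2** -/
theorem index_le_gen [Finite Q] (hg : H59.EP.TwoGen.{0}) (hs : IsSimpleGroup Q) (h : EPT A Γ)
    (hab : ∀ K : Subgroup Q, K ≤ A → (∀ a ∈ A, ∀ k ∈ K, a * k * a⁻¹ ∈ K) → (∀ a ∈ K, ∀ b ∈ K, a * b = b * a) → K = ⊥)
    (l : List (ℕ × ℕ)) (h1 : ∀ x ∈ l, x.1.Prime ∧ 0 < x.2) (h2 : (l.map Prod.fst).Nodup)
    (hc : Nat.card A ∣ (l.map fun x => x.1 ^ x.2).prod) (hB : (l.map fun x => x.1 ^ x.2).prod < 60 ^ 61) :
    A.index ≤ 1 + ((l.map fun x => H59.EP.gal x.1 x.2).sum * ((l.map fun x => x.1 ^ x.2).prod / 6) +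
        (l.map fun x => x.1 ^ x.2).prod ^ 2 / 60 + (l.map fun x => x.1 ^ x.2).prod ^ 3 / 12744000) *
          (2 * (Nat.card A / 6)) :=
  H59.EP.index_le_of (H59.EP.EPT.ncard_le_gen_dvd h hg hab l h1 h2 hc hB)
    (Cfsg.Agent.H173.EP.ub1 hs h (by norm_num) fun _ hx => H59.EP.EPT.six_le h hab hx) le_rfl

/-- `M₂₂` -/
theorem index_m22 [Finite Q] (hg : H59.EP.TwoGen.{0}) (hs : IsSimpleGroup Q) (h : EPT A Γ) {L : Type*} [Group L] (hL : Spor.IsoM22 L)
    (hS : HasSoc A L) : A.index ≤ 10 ^ 17 := by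
  obtain ⟨f⟩ := id hL
  have hfin : Finite L := Finite.of_equiv _ f.symm.toEquiv
  have hLs : IsSimpleGroup L := by
    have := Cfsg.Agent.SporadicA.MathieuRecog.simple_M22
    exact f.isSimpleGroup
  have hLc : Nat.card L = 443520 := by
    rw [Nat.card_congr f.toEquiv, Cfsg.Agent.SporadicA.MathieuRecog.card_M22]
  have hd := dvd_m22 hL hS
  have h1 := index_le_gen hg hs h (hab_of hLs (by rw [hLc]; norm_num) hS)
    [(2, 8), (3, 2), (5, 1), (7, 1), (11, 1)] (by norm_num) (by decide) (by simpa using hd) (by norm_num)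
  refine h1.trans ?_
  have h2 : Nat.card A / 6 ≤ 147840 := Nat.div_le_div_right (c := 6) (Nat.le_of_dvd (by norm_num) hd)
  refine (Nat.add_le_add_left (Nat.mul_le_mul_left _ (Nat.mul_le_mul_left 2 h2)) 1).trans ?_
  decide +kernel

/-- `A₁₁` -/
theorem index_a11 [Finite Q] (hg : H59.EP.TwoGen.{0}) (hs : IsSimpleGroup Q) (h : EPT A Γ) (hS : HasSoc A (alternatingGroup (Fin 11))) :
    A.index ≤ 10 ^ 24 := by
  have h5 : Fact (5 ≤ Nat.card (Fin 11)) := ⟨by rw [Nat.card_eq_fintype_card, Fintype.card_fin]; norm_num⟩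
  have hLs : IsSimpleGroup (alternatingGroup (Fin 11)) :=
    alternatingGroup.isSimpleGroup (by rw [Nat.card_eq_fintype_card, Fintype.card_fin]; norm_num)
  have hLc : Nat.card (alternatingGroup (Fin 11)) = 19958400 := by
    rw [nat_card_alternatingGroup, Nat.card_eq_fintype_card, Fintype.card_fin]
    rfl
  have hd := dvd_a11 hS
  have h1 := index_le_gen hg hs h (hab_of hLs (by rw [hLc]; norm_num) hS)
    [(2, 8), (3, 4), (5, 2), (7, 1), (11, 1)] (by norm_num) (by decide) (by simpa using hd) (by norm_num)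
  refine h1.trans ?_
  have h2 : Nat.card A / 6 ≤ 6652800 := Nat.div_le_div_right (c := 6) (Nat.le_of_dvd (by norm_num) hd)
  refine (Nat.add_le_add_left (Nat.mul_le_mul_left _ (Nat.mul_le_mul_left 2 h2)) 1).trans ?_
  decide +kernel

/-- **S3499-IV, row S5851** -/
theorem row_ten_minus [Finite Q] (hk : ∀ (T : Type) [Group T] [Finite T] [IsSimpleGroup T], IsKnownSimple' T)
    (hg : H59.EP.TwoGen.{0}) (hs : IsSimpleGroup Q) (h : EPT A Γ) {F : Type} [Field F] [Fintype F]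
    {Qf : (Fin 10 → F) → F}
    (m : Model Q (omegaGL Qf)) (hQ : IsNondegenerateQuadraticForm Qf) (hminus : ¬ IsPlusTypeOn Qf ⊤)
    (hres : InOrthogonalResidualClass (m.hat A))
    (hnat : Fintype.card F = 2 → HasSoc A (alternatingGroup (Fin 12)) → False)
    (hown : Fintype.card F % 4 = 3 → HasSoc A (PSp 2 F) → False) : False := by
  obtain ⟨P, hP, -, hc'⟩ := H933.O10.main hk hQ (m.isMaximalIn h.max) hres
  have hc := hc' hminus
  have hS := hasSoc_of_core m hP
  have hcard : 7 ≤ Fintype.card F → 26 * 10 ^ 36 ≤ Nat.card Q := by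
    intro h7
    obtain ⟨a, b, hab⟩ := H955.exists_aniso_coeff F
    obtain ⟨e⟩ := model_minus hQ (m := 5) (by norm_num) (by rw [Fintype.card_fin]) hminus m hab
    rw [Nat.card_congr e.toEquiv]
    exact card_minus_ge h7 hab
  rcases hc with ⟨⟨e⟩, hp, h2, h7, hm⟩ | ⟨e, h7⟩ | ⟨⟨e⟩, hp, h2, hm⟩ | ⟨⟨e⟩, h2⟩ | ⟨⟨e⟩, h4⟩
  · have h7 : 7 ≤ Fintype.card F := by
      by_contra hcon
      unfold H933.O10.Nsq11 at hm
      have h6 : Fintype.card F = 6 := by have := hp.two_le; omega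
      rw [h6] at hp
      exact absurd hp (by norm_num)
    have hS' := hS.congr e
    exact false_of_card (Nat.le_of_dvd (by norm_num) (card_dvd_psl11 hS')) (psl11_index h hS') (hcard h7) (by norm_num)
  · exact false_of_card (Nat.le_of_dvd (by norm_num) (dvd_m22 e hS)) (index_m22 hg hs h e hS) (hcard (by omega))
      (by norm_num)
  · have h7 : 7 ≤ Fintype.card F := by
      by_contra hcon
      unfold H933.O10.Nsq11 at hm
      have h6 : Fintype.card F = 6 := by have := hp.two_le; omega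
      rw [h6] at hp
      exact absurd hp (by norm_num)
    have hS' := hS.congr e
    exact false_of_card (Nat.le_of_dvd (by norm_num) (dvd_a11 hS')) (index_a11 hg hs h hS') (hcard h7) (by norm_num)
  · exact hnat h2 (hS.congr e)
  · exact hown h4 (hS.congr e)

end

end Cfsg.Agent.H621.EP
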