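import Cfsg.Agent.H621.EP.TenMinusNat
import Cfsg.Agent.H470.EPO.OwnPan
import Cfsg.Agent.H419.EP.Filt
import Cfsg.Agent.H742.PanU
import Cfsg.Agent.S0270
import Cfsg.Agent.H919.Gs.Num

/-!
# S3499-IV, row S5851, complete (helper621)

`ownTen` from helper470's `own_pan` (own characteristic, rank two, `p ≠ 2`).
-/

set_option autoImplicit false

namespace Cfsg.Agent.H621.EP

open Cfsg Cfsg.Geo Cfsg.Agent.H284 Cfsg.Agent.H419.EP

theorem odd_ringChar {F : Type} [Field F] [Fintype F] (h : Fintype.card F % 4 = 3) : ringChar F ≠ 2 := by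
  intro h2
  have h3 : ((Fintype.card F : ℕ) : F) = 0 := FiniteField.cast_card_eq_zero F
  rw [ringChar.spec, h2] at h3
  omega

theorem ownTen : OwnTen := by
  intro Q _ _ hs A Γ h F _ _ Qf m hQ _ _ h4 hS
  have hq : 3 ≤ Fintype.card F := by
    have := Fintype.one_lt_card (α := F)
    omega
  have hp : Fact (ringChar F).Prime := ⟨CharP.char_is_prime F _⟩
  have hL : IsSimpleGroup (PSp 2 F) := Cfsg.Agent.S0270.result 2 le_rfl (fun _ => hq)
  have hfin : Finite (PSp 2 F) := Quotient.finite _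
  have hQf := hasFilt_orth hQ (by rw [Fintype.card_fin]; norm_num) m
  have hLn : ∃ a b : PSp 2 F, a * b ≠ b * a := by
    by_contra hcon
    push Not at hcon
    let _ : CommGroup (PSp 2 F) := { (inferInstance : Group (PSp 2 F)) with mul_comm := hcon }
    have hpr : (Nat.card (PSp 2 F)).Prime := IsSimpleGroup.prime_card
    have h3 : 3 ∣ Nat.card (PSp 2 F) :=
      Cfsg.Agent.H919.Gs.psp_dvd (by omega) Nat.prime_three (by norm_num) (by omega)
    have h5 : 5 ∣ Nat.card (PSp 2 F) :=
      Cfsg.Agent.H919.Gs.psp_dvd (by omega) (by norm_num) (by norm_num) (by omega)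
    have h3' := (Nat.prime_dvd_prime_iff_eq Nat.prime_three hpr).1 h3
    have h5' := (Nat.prime_dvd_prime_iff_eq (by norm_num : Nat.Prime 5) hpr).1 h5
    omega
  exact odd_ringChar h4 (H470.EPO.own_pan (p := ringChar F) le_rfl hQf h hLn hS
    (H742.pan_psp (F := F) (m := 2) (p := ringChar F) (by norm_num))
    (KFacts.RgdFiltClass.hasFilt_PSp (F := F) (p := ringChar F) (m := 2) (by norm_num))).1

/-- **the row `Ω₁₀⁻(q)`** -/
theorem rowMinus_ten_fin (hk : ∀ (T : Type) [Group T] [Finite T] [IsSimpleGroup T], IsKnownSimple' T)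
    (hg : H59.EP.TwoGen.{0}) : H982.EP.RowMinus 10 := rowMinus_ten' hk hg ownTen

end Cfsg.Agent.H621.EP
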