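import Cfsg.Agent.H621.EP.TenMinusRow
import Cfsg.Agent.H575.NA.Row

/-!
# S3499-IV, row S5851: only the own characteristic case `PSp₄(q)` remains (helper621)
-/

set_option autoImplicit false

namespace Cfsg.Agent.H621.EP

open Cfsg Cfsg.Geo Cfsg.Agent.H284 Cfsg.Agent.H419.EP

theorem natTen : NatTen := fun hs _ _ h _ _ _ _ m hQ _ hres hF hS =>
  H575.NA.nat_hasSoc hs h m hQ hres hF (by rw [Fintype.card_fin]; norm_num) (c := 12) (by norm_num) hS

/-- **the row `Ω₁₀⁻(q)`** modulo the own characteristic case -/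
theorem rowMinus_ten' (hk : ∀ (T : Type) [Group T] [Finite T] [IsSimpleGroup T], IsKnownSimple' T)
    (hg : H59.EP.TwoGen.{0}) (hO : OwnTen) : H982.EP.RowMinus 10 := rowMinus_ten hk hg natTen hO

end Cfsg.Agent.H621.EP
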