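import Cfsg.Agent.H621.EP.TenMinus
import Cfsg.Agent.H982.EP.OmRes

/-!
# S3499-IV, row S5851 in the shape `RowMinus 10` of helper982 (helper621)
-/

set_option autoImplicit false

namespace Cfsg.Agent.H621.EP

open Subgroup Cfsg Cfsg.Geo Cfsg.Agent.H284 Cfsg.Agent.H419.EP
open scoped MatrixGroups

/-- `A₁₂` in `Ω₁₀⁻(2)` -/
def NatTen : Prop := ∀ {Q : Type} [Group Q] [Finite Q], IsSimpleGroup Q → ∀ {A : Subgroup Q}
    {Γ : Subgroup (MulAut Q)}, EPT A Γ → ∀ {F : Type} [Field F] [Fintype F] {Qf : (Fin 10 → F) → F}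
    (m : Model Q (omegaGL Qf)), IsNondegenerateQuadraticForm Qf → ¬ IsPlusTypeOn Qf ⊤ →
    InOrthogonalResidualClass (m.hat A) → Fintype.card F = 2 → HasSoc A (alternatingGroup (Fin 12)) → False

/-- `PSp₄(q)` in `Ω₁₀⁻(q)`, own characteristic -/
def OwnTen : Prop := ∀ {Q : Type} [Group Q] [Finite Q], IsSimpleGroup Q → ∀ {A : Subgroup Q}
    {Γ : Subgroup (MulAut Q)}, EPT A Γ → ∀ {F : Type} [Field F] [Fintype F] {Qf : (Fin 10 → F) → F}
    (m : Model Q (omegaGL Qf)), IsNondegenerateQuadraticForm Qf → ¬ IsPlusTypeOn Qf ⊤ →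
    InOrthogonalResidualClass (m.hat A) → Fintype.card F % 4 = 3 → HasSoc A (PSp 2 F) → False

/-- **the row `Ω₁₀⁻(q)`** -/
theorem rowMinus_ten (hk : ∀ (T : Type) [Group T] [Finite T] [IsSimpleGroup T], IsKnownSimple' T)
    (hg : H59.EP.TwoGen.{0}) (hN : NatTen) (hO : OwnTen) : H982.EP.RowMinus 10 :=
  fun hs _ _ h _ _ _ _ m hQ hminus hres =>
    row_ten_minus hk hg hs h m hQ hminus hres (hN hs h m hQ hminus hres) (hO hs h m hQ hminus hres)

end Cfsg.Agent.H621.EP
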